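import Groth.Agent.Lib.IntMult4.Regular
import Groth.Agent.Lib.KoszulEuler.TorLen
import Groth.Agent.Lib.KoszulEuler.Exact
import Groth.Prelude.Def_IntMult
import Mathlib.Algebra.Homology.HomologySequence
import Mathlib.Algebra.Homology.HomologicalComplexAbelian
import Mathlib.RingTheory.Flat.Basic

/-! Additivity of the Tor Euler characteristic. -/

set_option autoImplicit false
set_option linter.style.haveILetI false
set_option backward.isDefEq.respectTransparency false

universe u

open CategoryTheory CategoryTheory.Limits

namespace GrothLib.ChiDev4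

variable {A : Type u} [CommRing A] {M : Type u} [AddCommGroup M] [Module A M]
  (P : ProjectiveResolution (ModuleCat.of A M))

/-- The complex computing `Tor(N, M)`. -/
noncomputable abbrev C (N : Type u) [AddCommGroup N] [Module A N] : ChainComplex (ModuleCat.{u} A) ℕ :=
  (((MonoidalCategory.tensoringLeft (ModuleCat.{u} A)).obj (ModuleCat.of A N)).mapHomologicalComplex
    (ComplexShape.down ℕ)).obj P.complex

theorem length_tor (N : Type u) [AddCommGroup N] [Module A N] (i : ℕ) :
    Module.length A (DRing.Tor A i N M) = Module.length A ((C P N).homology i) :=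
  (P.isoLeftDerivedObj ((MonoidalCategory.tensoringLeft (ModuleCat.{u} A)).obj (ModuleCat.of A N)) i).toLinearEquiv.length_eq

/-- The map of complexes induced by a linear map. -/
noncomputable abbrev Cmap {N N' : Type u} [AddCommGroup N] [Module A N] [AddCommGroup N'] [Module A N']
    (f : N →ₗ[A] N') : C P N ⟶ C P N' :=
  (NatTrans.mapHomologicalComplex ((MonoidalCategory.tensoringLeft (ModuleCat.{u} A)).map (ModuleCat.ofHom f))
    (ComplexShape.down ℕ)).app P.complex

variable {N₁ N₂ N₃ : Type u} [AddCommGroup N₁] [Module A N₁] [AddCommGroup N₂] [Module A N₂]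
  [AddCommGroup N₃] [Module A N₃] {f : N₁ →ₗ[A] N₂} {g : N₂ →ₗ[A] N₃}

theorem Cmap_comp (hfg : Function.Exact f g) : Cmap P f ≫ Cmap P g = 0 :=
  HomologicalComplex.hom_ext _ _ fun i => ModuleCat.hom_ext
    (((LinearMap.rTensor_comp (P.complex.X i) g f).symm.trans
      ((congrArg (LinearMap.rTensor (P.complex.X i)) hfg.linearMap_comp_eq_zero).trans (LinearMap.rTensor_zero _))))

theorem shortExact (hf : Function.Injective f) (hg : Function.Surjective g) (hfg : Function.Exact f g) :
    (ShortComplex.mk (Cmap P f) (Cmap P g) (Cmap_comp P hfg)).ShortExact := by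
  refine HomologicalComplex.shortExact_of_degreewise_shortExact _ fun i => ?_
  haveI : Module.Projective A (P.complex.X i) := (IsProjective.iff_projective _).2 (P.projective i)
  exact
    { exact := (ShortComplex.ShortExact.moduleCat_exact_iff_function_exact _).2
        (rTensor_exact (P.complex.X i) hfg hg)
      mono_f := (ModuleCat.mono_iff_injective _).2
        (Module.Flat.rTensor_preserves_injective_linearMap f hf)
      epi_g := (ModuleCat.epi_iff_surjective _).2 (LinearMap.rTensor_surjective (P.complex.X i) hg) }

theorem epi_homologyMap_zero (hg : Function.Surjective g) : Epi (HomologicalComplex.homologyMap (Cmap P g) 0) := by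
  haveI : Epi ((Cmap P g).f 0) :=
    (ModuleCat.epi_iff_surjective _).2 (LinearMap.rTensor_surjective (P.complex.X 0) hg)
  haveI : Epi (HomologicalComplex.cyclesMap (Cmap P g) 0) := by
    have e : HomologicalComplex.cyclesMap (Cmap P g) 0 =
        (C P N₂).iCycles 0 ≫ (Cmap P g).f 0 ≫ inv ((C P N₃).iCycles 0) := by
      rw [← Category.assoc, ← HomologicalComplex.cyclesMap_i, Category.assoc, IsIso.hom_inv_id, Category.comp_id]
    rw [e]
    infer_instance
  haveI : Epi (HomologicalComplex.cyclesMap (Cmap P g) 0 ≫ (C P N₃).homologyπ 0) := epi_comp _ _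
  exact epi_of_epi_fac (f := (C P N₂).homologyπ 0) (g := HomologicalComplex.homologyMap (Cmap P g) 0)
    (HomologicalComplex.homologyπ_naturality (Cmap P g) 0)

theorem length_eq_zero_above (N : Type u) [AddCommGroup N] [Module A N] {a i : ℕ}
    (hP : ∀ i, a < i → IsZero (P.complex.X i)) (hi : a < i) : Module.length A ((C P N).homology i) = 0 := by
  haveI := ModuleCat.subsingleton_of_isZero ((HomologicalComplex.exactAt_iff_isZero_homology _ _).1
    (HomologicalComplex.ExactAt.of_isZero (K := C P N) (i := i) (Functor.map_isZero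
      ((MonoidalCategory.tensoringLeft (ModuleCat.{u} A)).obj (ModuleCat.of A N)) (hP i hi))))
  exact Module.length_eq_zero

/-- Additivity of `χ` along a short exact sequence. -/
theorem chi_short {a : ℕ} (hM : HasProjectiveDimensionLE (ModuleCat.of A M) a)
    (hf : Function.Injective f) (hg : Function.Surjective g) (hfg : Function.Exact f g)
    (h1 : ∀ i, Module.length A (DRing.Tor A i N₁ M) ≠ ⊤) (h3 : ∀ i, Module.length A (DRing.Tor A i N₃ M) ≠ ⊤) :
    (∀ i, Module.length A (DRing.Tor A i N₂ M) ≠ ⊤) ∧
      IntMult.chi A N₂ M = IntMult.chi A N₁ M + IntMult.chi A N₃ M := by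
  obtain ⟨P, hP⟩ := GrothLib.PdResolution.exists_resolution a _ hM
  simp only [length_tor P] at h1 h3 ⊢
  have hS := shortExact P hf hg hfg
  let rf : ℕ → ℕ∞ := fun i => Module.length A (LinearMap.range (HomologicalComplex.homologyMap (Cmap P f) i).hom)
  let rg : ℕ → ℕ∞ := fun i => Module.length A (LinearMap.range (HomologicalComplex.homologyMap (Cmap P g) i).hom)
  let rd : ℕ → ℕ∞ := fun i => Module.length A (LinearMap.range (hS.δ (i + 1) i rfl).hom)
  have e2 : ∀ i, Module.length A ((C P N₂).homology i) = rf i + rg i := fun i =>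
    GrothLib.Herbrand.length_eq_range_add_range (R := A) _ _
      ((ShortComplex.ShortExact.moduleCat_exact_iff_function_exact _).1 (hS.homology_exact₂ i))
  have e3 : ∀ i, Module.length A ((C P N₃).homology (i + 1)) = rg (i + 1) + rd i := fun i =>
    GrothLib.Herbrand.length_eq_range_add_range (R := A) _ _
      ((ShortComplex.ShortExact.moduleCat_exact_iff_function_exact _).1 (hS.homology_exact₃ (i + 1) i rfl))
  have e1 : ∀ i, Module.length A ((C P N₁).homology i) = rd i + rf i := fun i =>
    GrothLib.Herbrand.length_eq_range_add_range (R := A) _ _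
      ((ShortComplex.ShortExact.moduleCat_exact_iff_function_exact _).1 (hS.homology_exact₁ (i + 1) i rfl))
  have e30 : rg 0 = Module.length A ((C P N₃).homology 0) := by
    haveI := epi_homologyMap_zero P (g := g) hg
    show Module.length A (LinearMap.range _) = _
    rw [LinearMap.range_eq_top.2 ((ModuleCat.epi_iff_surjective _).1 inferInstance)]
    exact Submodule.topEquiv.length_eq
  have f1 : ∀ i, rd i ≠ ⊤ ∧ rf i ≠ ⊤ := fun i => by
    have := lt_top_iff_ne_top.2 (h1 i)
    rw [e1, ENat.add_lt_top] at this
    exact ⟨this.1.ne, this.2.ne⟩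
  have f3 : ∀ i, rg i ≠ ⊤ := fun i => by
    rcases i with _ | i
    · rw [e30]; exact h3 0
    · have := lt_top_iff_ne_top.2 (h3 (i + 1))
      rw [e3, ENat.add_lt_top] at this
      exact this.1.ne
  refine ⟨fun i => ?_, ?_⟩
  · rw [e2]
    exact (ENat.add_lt_top.2 ⟨(f1 i).2.lt_top, (f3 i).lt_top⟩).ne
  have key : ∀ (N : Type u) [AddCommGroup N] [Module A N], IntMult.chi A N M =
      ∑ i ∈ Finset.range (a + 2), (-1 : ℤ) ^ i * ((Module.length A ((C P N).homology i)).toNat : ℤ) := by
    intro N _ _
    rw [IntMult.chi, finsum_eq_sum_of_support_subset _ (s := Finset.range (a + 2))]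
    · simp only [length_tor P]
    · intro i hi
      rw [Finset.coe_range, Set.mem_Iio]
      by_contra hlt
      refine hi ?_
      simp only [length_tor P, length_eq_zero_above P N hP (show a < i by omega)]
      simp
  have hlast : rd (a + 1) = 0 := by
    have h := e1 (a + 1)
    rw [length_eq_zero_above P N₁ hP (Nat.lt_succ_self a)] at h
    exact (add_eq_zero.1 h.symm).1
  let d : ℕ → ℤ := fun i => ((rd i).toNat : ℤ)
  let t : ℕ → ℤ := fun i => (-1 : ℤ) ^ i * (((Module.length A ((C P N₁).homology i)).toNat : ℤ) +
    ((Module.length A ((C P N₃).homology i)).toNat : ℤ) - ((Module.length A ((C P N₂).homology i)).toNat : ℤ))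
  have htel : ∀ L, ∑ i ∈ Finset.range (L + 1), t i = (-1 : ℤ) ^ L * d L := by
    intro L
    induction L with
    | zero =>
      rw [show (0 : ℕ) + 1 = 1 from rfl, Finset.sum_range_one]
      simp only [t, d]
      rw [e1, e2, ← e30, ENat.toNat_add (f1 0).1 (f1 0).2, ENat.toNat_add (f1 0).2 (f3 0)]
      push_cast
      ring
    | succ L ih =>
      rw [Finset.sum_range_succ, ih]
      simp only [t, d, e1, e2, e3, ENat.toNat_add (f1 (L + 1)).1 (f1 (L + 1)).2,
        ENat.toNat_add (f1 (L + 1)).2 (f3 (L + 1)), ENat.toNat_add (f3 (L + 1)) (f1 L).1, Nat.cast_add]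
      ring
  have h0 := htel (a + 1)
  simp only [d, hlast, ENat.toNat_zero, Nat.cast_zero, mul_zero] at h0
  rw [key, key, key]
  simp only [t, mul_sub, mul_add, Finset.sum_sub_distrib, Finset.sum_add_distrib] at h0
  linarith

/-- A linear equivalence in the first variable. -/
theorem length_tor_congr {N N' : Type u} [AddCommGroup N] [Module A N] [AddCommGroup N'] [Module A N']
    (e : N ≃ₗ[A] N') (i : ℕ) :
    Module.length A (DRing.Tor A i N M) = Module.length A (DRing.Tor A i N' M) :=
  (((CategoryTheory.Tor (ModuleCat.{u} A) i).mapIso e.toModuleIso).app (ModuleCat.of A M)).toLinearEquiv.length_eq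

theorem chi_congr {N N' : Type u} [AddCommGroup N] [Module A N] [AddCommGroup N'] [Module A N']
    (e : N ≃ₗ[A] N') : IntMult.chi A N M = IntMult.chi A N' M :=
  finsum_congr fun i => by rw [length_tor_congr (M := M) e i]

theorem length_tor_of_subsingleton (N : Type u) [AddCommGroup N] [Module A N] [Subsingleton N] (i : ℕ) :
    Module.length A (DRing.Tor A i N M) = 0 := by
  let P := projectiveResolution (ModuleCat.of A M)
  rw [length_tor P]
  haveI := ModuleCat.subsingleton_of_isZero ((HomologicalComplex.exactAt_iff_isZero_homology _ _).1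
    (HomologicalComplex.ExactAt.of_isZero (K := C P N) (i := i) (ModuleCat.isZero_iff_subsingleton.2
      (inferInstanceAs (Subsingleton (TensorProduct A N (P.complex.X i)))))))
  exact Module.length_eq_zero

theorem chi_of_subsingleton (N : Type u) [AddCommGroup N] [Module A N] [Subsingleton N] :
    IntMult.chi A N M = 0 := by
  simp [IntMult.chi, length_tor_of_subsingleton]

end GrothLib.ChiDev4
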