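import Groth.Agent.Lib.ChiDev4.Add
import Groth.Agent.Lib.HTor22.Sequence
import Groth.Agent.Lib.HTor22.TorIso
import Groth.Agent.Lib.DCxKFlat.TensorSymm
import Groth.Agent.Lib.FlatFP.TorShift
import Mathlib.Algebra.Homology.Embedding.CochainComplex
import Mathlib.Algebra.Homology.HomotopyCategory.ShiftSequence
import Mathlib.Algebra.Homology.BifunctorShift
import Mathlib.Algebra.Homology.TotalComplexSymmetry

/-! Associativity of the Tor Euler characteristic. -/

set_option autoImplicit false
set_option linter.style.haveILetI false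
set_option backward.isDefEq.respectTransparency false
set_option maxHeartbeats 1000000

universe u

open CategoryTheory CategoryTheory.Limits MonoidalCategory HomologicalComplex TensorProduct

attribute [local instance] HasDerivedCategory.standard

namespace GrothLib.ChiDev4

variable {A : Type u} [CommRing A]

/-- The Euler characteristic of a complex. -/
noncomputable def eul (K : DRing.Cx A) : ℤ :=
  ∑ᶠ i : ℤ, ((i.negOnePow : ℤˣ) : ℤ) * ((Module.length A (K.homology i)).toNat : ℤ)

/-- Finitely many nonzero homology modules, all of finite length. -/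
def Fin' (K : DRing.Cx A) : Prop :=
  (∀ i, Module.length A (K.homology i) ≠ ⊤) ∧ {i | Module.length A (K.homology i) ≠ 0}.Finite

theorem eul_congr {K L : DRing.Cx A} (h : ∀ i, Module.length A (K.homology i) = Module.length A (L.homology i)) :
    eul K = eul L := finsum_congr fun i => by rw [h]

theorem length_homology_of_iso {K L : DRing.Cx A} (e : K ≅ L) (i : ℤ) :
    Module.length A (K.homology i) = Module.length A (L.homology i) :=
  ((HomologicalComplex.homologyFunctor _ _ i).mapIso e).toLinearEquiv.length_eq

theorem length_homology_of_quasiIso {K L : DRing.Cx A} (f : K ⟶ L) [QuasiIso f] (i : ℤ) :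
    Module.length A (K.homology i) = Module.length A (L.homology i) :=
  (isoOfQuasiIsoAt f i).toLinearEquiv.length_eq

theorem Fin'.congr {K L : DRing.Cx A} (h : ∀ i, Module.length A (K.homology i) = Module.length A (L.homology i))
    (hK : Fin' K) : Fin' L := by
  refine ⟨fun i => h i ▸ hK.1 i, hK.2.subset fun i hi => ?_⟩
  show Module.length A (K.homology i) ≠ 0
  rw [h]; exact hi

theorem eul_add {S : ShortComplex (DRing.Cx A)} (hS : S.ShortExact) (h1 : Fin' S.X₁) (h3 : Fin' S.X₃) :
    Fin' S.X₂ ∧ eul S.X₂ = eul S.X₁ + eul S.X₃ := by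
  let rf : ℤ → ℕ∞ := fun i => Module.length A (LinearMap.range (HomologicalComplex.homologyMap S.f i).hom)
  let rg : ℤ → ℕ∞ := fun i => Module.length A (LinearMap.range (HomologicalComplex.homologyMap S.g i).hom)
  let rd : ℤ → ℕ∞ := fun i => Module.length A (LinearMap.range (hS.δ i (i + 1) rfl).hom)
  have e2 : ∀ i, Module.length A (S.X₂.homology i) = rf i + rg i := fun i =>
    GrothLib.Herbrand.length_eq_range_add_range (R := A) _ _
      ((ShortComplex.ShortExact.moduleCat_exact_iff_function_exact _).1 (hS.homology_exact₂ i))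
  have e3 : ∀ i, Module.length A (S.X₃.homology i) = rg i + rd i := fun i =>
    GrothLib.Herbrand.length_eq_range_add_range (R := A) _ _
      ((ShortComplex.ShortExact.moduleCat_exact_iff_function_exact _).1 (hS.homology_exact₃ i (i + 1) rfl))
  have e1 : ∀ i, Module.length A (S.X₁.homology (i + 1)) = rd i + rf (i + 1) := fun i =>
    GrothLib.Herbrand.length_eq_range_add_range (R := A) _ _
      ((ShortComplex.ShortExact.moduleCat_exact_iff_function_exact _).1 (hS.homology_exact₁ i (i + 1) rfl))
  have fg : ∀ i, rg i ≠ ⊤ ∧ rd i ≠ ⊤ := fun i => by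
    have := lt_top_iff_ne_top.2 (h3.1 i)
    rw [e3, ENat.add_lt_top] at this
    exact ⟨this.1.ne, this.2.ne⟩
  have ff : ∀ i, rf i ≠ ⊤ := fun i => by
    have := lt_top_iff_ne_top.2 (h1.1 (i - 1 + 1))
    rw [e1, ENat.add_lt_top] at this
    simpa using this.2.ne
  have sg : (Function.support fun i => ((i.negOnePow : ℤˣ) : ℤ) * ((rg i).toNat : ℤ)).Finite :=
    h3.2.subset fun i hi => by
      show Module.length A (S.X₃.homology i) ≠ 0
      intro h; rw [e3] at h; simp [(add_eq_zero.1 h).1] at hi
  have sd : (Function.support fun i => ((i.negOnePow : ℤˣ) : ℤ) * ((rd i).toNat : ℤ)).Finite :=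
    h3.2.subset fun i hi => by
      show Module.length A (S.X₃.homology i) ≠ 0
      intro h; rw [e3] at h; simp [(add_eq_zero.1 h).2] at hi
  have sf : (Function.support fun i => ((i.negOnePow : ℤˣ) : ℤ) * ((rf i).toNat : ℤ)).Finite :=
    h1.2.subset fun i hi => by
      show Module.length A (S.X₁.homology i) ≠ 0
      intro h
      have h' := e1 (i - 1)
      rw [sub_add_cancel, h] at h'
      simp [(add_eq_zero.1 h'.symm).2] at hi
  refine ⟨⟨fun i => ?_, (h1.2.union h3.2).subset fun i hi => ?_⟩, ?_⟩
  · rw [e2]; exact (ENat.add_lt_top.2 ⟨(ff i).lt_top, (fg i).1.lt_top⟩).ne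
  · by_contra hno
    simp only [Set.mem_union, Set.mem_setOf_eq, not_or, not_not] at hno
    refine hi ?_
    have h' := e1 (i - 1)
    rw [sub_add_cancel, hno.1] at h'
    have h'' := e3 i
    rw [hno.2] at h''
    rw [e2, (add_eq_zero.1 h'.symm).2, (add_eq_zero.1 h''.symm).1, add_zero]
  have E2 : eul S.X₂ = (∑ᶠ i : ℤ, ((i.negOnePow : ℤˣ) : ℤ) * ((rf i).toNat : ℤ)) +
      ∑ᶠ i : ℤ, ((i.negOnePow : ℤˣ) : ℤ) * ((rg i).toNat : ℤ) := by
    rw [← finsum_add_distrib sf sg]
    exact finsum_congr fun i => by rw [e2, ENat.toNat_add (ff i) (fg i).1]; push_cast; ring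
  have E3 : eul S.X₃ = (∑ᶠ i : ℤ, ((i.negOnePow : ℤˣ) : ℤ) * ((rg i).toNat : ℤ)) +
      ∑ᶠ i : ℤ, ((i.negOnePow : ℤˣ) : ℤ) * ((rd i).toNat : ℤ) := by
    rw [← finsum_add_distrib sg sd]
    exact finsum_congr fun i => by rw [e3, ENat.toNat_add (fg i).1 (fg i).2]; push_cast; ring
  have sd' : (Function.support fun i => ((i.negOnePow : ℤˣ) : ℤ) * ((rd (i - 1)).toNat : ℤ)).Finite :=
    h1.2.subset fun i hi => by
      show Module.length A (S.X₁.homology i) ≠ 0
      intro h
      have h' := e1 (i - 1)
      rw [sub_add_cancel, h] at h'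
      simp [(add_eq_zero.1 h'.symm).1] at hi
  have E1 : eul S.X₁ = (∑ᶠ i : ℤ, ((i.negOnePow : ℤˣ) : ℤ) * ((rd (i - 1)).toNat : ℤ)) +
      ∑ᶠ i : ℤ, ((i.negOnePow : ℤˣ) : ℤ) * ((rf i).toNat : ℤ) := by
    rw [← finsum_add_distrib sd' sf]
    refine finsum_congr fun i => ?_
    have h' := e1 (i - 1)
    rw [sub_add_cancel] at h'
    rw [h', ENat.toNat_add (fg (i - 1)).2 (ff i)]; push_cast; ring
  have hsh : (∑ᶠ i : ℤ, ((i.negOnePow : ℤˣ) : ℤ) * ((rd (i - 1)).toNat : ℤ)) =
      -∑ᶠ i : ℤ, ((i.negOnePow : ℤˣ) : ℤ) * ((rd i).toNat : ℤ) := by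
    rw [← finsum_neg_distrib]
    refine (finsum_comp_equiv (Equiv.addRight (1 : ℤ))).symm.trans (finsum_congr fun i => ?_)
    show (((i + 1).negOnePow : ℤˣ) : ℤ) * ((rd (i + 1 - 1)).toNat : ℤ) = _
    rw [add_sub_cancel_right, Int.negOnePow_succ]; simp
  rw [E2, E1, E3, hsh]
  ring

/-- A finite module has finite Tor modules with a finite module. -/
theorem finite_tor [IsNoetherianRing A] (N : Type u) [AddCommGroup N] [Module A N] [Module.Finite A N] :
    ∀ (i : ℕ) (X : Type u) [AddCommGroup X] [Module A X] [Module.Finite A X], Module.Finite A (DRing.Tor A i X N) := by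
  intro i
  induction i with
  | zero =>
    intro X _ _ _
    exact Module.Finite.equiv (GrothLib.KoszulEuler.torZeroEquiv X N).symm
  | succ i ih =>
    intro X _ _ _
    obtain ⟨r, g, hg⟩ := Module.Finite.exists_fin' A X
    let P := projectiveResolution (ModuleCat.of A N)
    let k := LinearMap.ker g
    have hS := shortExact P (f := k.subtype) (Submodule.subtype_injective _) hg (LinearMap.exact_subtype_ker_map g)
    haveI := ih k
    haveI : Module.Finite A ((C P k).homology i) :=
      Module.Finite.equiv (M := DRing.Tor A i k N) (P.isoLeftDerivedObj ((MonoidalCategory.tensoringLeft (ModuleCat.{u} A)).obj (ModuleCat.of A k)) i).toLinearEquiv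
    have hz : IsZero ((C P (Fin r → A)).homology (i + 1)) :=
      IsZero.of_iso (GrothLib.FlatFP.isZero_tor_succ_of_flat (ModuleCat.of A (Fin r → A)) (ModuleCat.of A N) i)
        (P.isoLeftDerivedObj ((MonoidalCategory.tensoringLeft (ModuleCat.{u} A)).obj (ModuleCat.of A (Fin r → A))) (i + 1)).symm
    haveI : Mono (hS.δ (i + 1) i rfl) := hS.mono_δ (i + 1) i rfl hz
    haveI : Module.Finite A ((C P X).homology (i + 1)) :=
      Module.Finite.of_injective (hS.δ (i + 1) i rfl).hom ((ModuleCat.mono_iff_injective _).1 inferInstance)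
    exact Module.Finite.equiv (M := ((C P X).homology (i + 1))) (P.isoLeftDerivedObj ((MonoidalCategory.tensoringLeft (ModuleCat.{u} A)).obj (ModuleCat.of A X)) (i + 1)).toLinearEquiv.symm

/-- A bounded-above resolution complex. -/
noncomputable abbrev tot (P K : DRing.Cx A) : DRing.Cx A := ((GrothLib.KF.tensorCx (R := A)).obj P).obj K

variable {M : Type u} [AddCommGroup M] [Module A M] (P : ProjectiveResolution (ModuleCat.of A M))

theorem length_tensorCx (X : ModuleCat.{u} A) (n : ℕ) :
    Module.length A ((DRing.tensorCx P.cochainComplex X).homology (-(n : ℤ))) = Module.length A (DRing.Tor A n X M) :=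
  (GrothLib.HTor22.nonempty_tensorCx_homology_iso X P n).elim fun e => e.toLinearEquiv.length_eq

theorem length_tensorCx_pos (X : ModuleCat.{u} A) {i : ℤ} (hi : 0 < i) :
    Module.length A ((DRing.tensorCx P.cochainComplex X).homology i) = 0 := by
  haveI := ModuleCat.subsingleton_of_isZero ((HomologicalComplex.exactAt_iff_isZero_homology _ _).1
    (HomologicalComplex.ExactAt.of_isZero (K := DRing.tensorCx P.cochainComplex X) (i := i)
      ((tensorRight X).map_isZero (GrothLib.KF.vanishesAbove_cochainComplex P i hi))))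
  exact Module.length_eq_zero

theorem eul_tensorCx {a : ℕ} (hP : ∀ i, a < i → IsZero (P.complex.X i)) (X : ModuleCat.{u} A)
    (hX : ∀ n, Module.length A (DRing.Tor A n X M) ≠ ⊤) :
    Fin' (DRing.tensorCx P.cochainComplex X) ∧ eul (DRing.tensorCx P.cochainComplex X) = IntMult.chi A X M := by
  have hz : ∀ n : ℕ, a < n → Module.length A (DRing.Tor A n X M) = 0 := fun n hn =>
    (length_tor P X n).trans (length_eq_zero_above P X hP hn)
  have hneg : ∀ i : ℤ, i ≤ 0 → Module.length A ((DRing.tensorCx P.cochainComplex X).homology i) =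
      Module.length A (DRing.Tor A (-i).toNat X M) := by
    intro i hi
    rw [← length_tensorCx P X (-i).toNat, show -((-i).toNat : ℤ) = i by omega]
  have hsupp : ∀ i : ℤ, Module.length A ((DRing.tensorCx P.cochainComplex X).homology i) ≠ 0 →
      -(a : ℤ) ≤ i ∧ i ≤ 0 := by
    intro i hi
    have h0 : i ≤ 0 := not_lt.1 fun h => hi (length_tensorCx_pos P X h)
    refine ⟨?_, h0⟩
    by_contra hlt
    exact hi (by rw [hneg i h0]; exact hz _ (by omega))
  refine ⟨⟨fun i => ?_, (Set.finite_Icc (-(a : ℤ)) 0).subset fun i hi => hsupp i hi⟩, ?_⟩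
  · by_cases hi : i ≤ 0
    · rw [hneg i hi]; exact hX _
    · rw [length_tensorCx_pos P X (not_le.1 hi)]; exact ENat.zero_ne_top
  rw [IntMult.chi, finsum_eq_sum_of_support_subset _ (s := Finset.range (a + 1)) (fun n hn => by
    rw [Finset.coe_range, Set.mem_Iio]
    by_contra hlt
    exact hn (by simp [hz n (by omega)]))]
  rw [eul, finsum_eq_sum_of_support_subset _ (s := (Finset.range (a + 1)).map ⟨fun n : ℕ => -(n : ℤ),
    fun x y e => by simpa using e⟩) (fun i hi => by
    have h := hsupp i fun h => hi (by simp [h])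
    exact Finset.mem_coe.2 (Finset.mem_map.2 ⟨(-i).toNat, Finset.mem_range.2 (by omega), by simp; omega⟩)),
    Finset.sum_map]
  refine Finset.sum_congr rfl fun n _ => ?_
  show (((-(n : ℤ)).negOnePow : ℤˣ) : ℤ) * _ = _
  simp only [Function.Embedding.coeFn_mk]
  rw [length_tensorCx, Int.negOnePow_neg]
  congr 1

/-- Tensoring with a resolution: the Euler characteristic through the homology. -/
theorem eul_tot {a : ℕ} (hP : ∀ i, a < i → IsZero (P.complex.X i)) : ∀ (S : Finset ℤ) (K : DRing.Cx A),
    (∀ j ∉ S, IsZero (K.homology j)) → (∀ j n, Module.length A (DRing.Tor A n (K.homology j) M) ≠ ⊤) →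
    Fin' (tot P.cochainComplex K) ∧
      eul (tot P.cochainComplex K) = ∑ j ∈ S, ((j.negOnePow : ℤˣ) : ℤ) * IntMult.chi A (K.homology j) M := by
  intro S
  induction S using Finset.induction_on_max with
  | empty =>
    intro K hS _
    have h0 : ∀ i, Module.length A ((tot P.cochainComplex K).homology i) = 0 := fun i => by
      haveI : Subsingleton ((tot P.cochainComplex K).homology i) := ModuleCat.subsingleton_of_isZero
        (((GrothLib.KF.isKFlat_cochainComplex P) K (fun j => hS j (Finset.notMem_empty j)) i).of_iso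
          (((HomologicalComplex.homologyFunctor _ _ i).mapIso
            (GrothLib.KF.tensorCxSymm K P.cochainComplex))))
      exact Module.length_eq_zero
    exact ⟨⟨fun i => by rw [h0]; exact ENat.zero_ne_top, (Set.finite_empty).subset fun i hi => absurd (h0 i) hi⟩,
      by simp [eul, h0]⟩
  | insert b S hb ih =>
    intro K hS hT
    let T := K.shortComplexTruncLE (b - 1)
    have hex : T.ShortExact := K.shortComplexTruncLE_shortExact (b - 1)
    have hlo : ∀ j, j ≤ b - 1 → Nonempty ((K.truncLE (b - 1)).homology j ≅ K.homology j) := fun j hj =>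
      haveI := K.quasiIsoAt_ιTruncLE (b - 1) j hj
      ⟨isoOfQuasiIsoAt (K.ιTruncLE (b - 1)) j⟩
    have hhi : ∀ j, b - 1 < j → IsZero ((K.truncLE (b - 1)).homology j) := fun j hj =>
      (K.truncLE (b - 1)).isZero_of_isLE (b - 1) j hj
    have h1 := ih (K.truncLE (b - 1))
      (fun j hj => by
        by_cases h : j ≤ b - 1
        · obtain ⟨e⟩ := hlo j h
          exact (hS j (by simp only [Finset.mem_insert, hj, or_false]; omega)).of_iso e
        · exact hhi j (not_le.1 h))
      (fun j n => by
        by_cases h : j ≤ b - 1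
        · obtain ⟨e⟩ := hlo j h
          rw [length_tor_congr e.toLinearEquiv]; exact hT j n
        · haveI := ModuleCat.subsingleton_of_isZero (hhi j (not_le.1 h))
          rw [length_tor_of_subsingleton]; exact ENat.zero_ne_top)
    haveI : QuasiIso (K.shortComplexTruncLEX₃ToTruncGE (b - 1) b (by omega)) := inferInstance
    let G := K.truncGE b
    have hG0 : ∀ j, b ≤ j → Nonempty (K.homology j ≅ G.homology j) := fun j hj =>
      haveI := K.quasiIsoAt_πTruncGE b j hj
      ⟨isoOfQuasiIsoAt (K.πTruncGE b) j⟩
    haveI : G.IsLE b := by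
      rw [CochainComplex.isLE_iff]
      intro j hj
      obtain ⟨e⟩ := hG0 j hj.le
      refine (HomologicalComplex.exactAt_iff_isZero_homology _ _).2 ((hS j ?_).of_iso e.symm)
      simp only [Finset.mem_insert, not_or]
      exact ⟨by omega, fun h => by have := hb j h; omega⟩
    let G' := G.truncLE b
    haveI : QuasiIso (G.ιTruncLE b) := (G.quasiIso_ιTruncLE_iff b).2 inferInstance
    haveI : G'.IsStrictlyGE b := inferInstance
    obtain ⟨X, ⟨eX⟩⟩ := G'.exists_iso_single b
    obtain ⟨eb⟩ := hG0 b le_rfl
    let eXb : X ≅ K.homology b :=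
      (HomologicalComplex.singleObjHomologySelfIso (ComplexShape.up ℤ) b X).symm ≪≫
        (HomologicalComplex.homologyFunctor _ _ b).mapIso eX.symm ≪≫ isoOfQuasiIsoAt (G.ιTruncLE b) b ≪≫ eb.symm
    let Y := (HomologicalComplex.single (ModuleCat.{u} A) (ComplexShape.up ℤ) b).obj X
    have hq : ∀ {L L' : DRing.Cx A} (φ : L ⟶ L') [QuasiIso φ] (i : ℤ),
        Module.length A ((tot P.cochainComplex L).homology i) = Module.length A ((tot P.cochainComplex L').homology i) :=
      fun {L L'} φ _ i =>
        haveI := GrothLib.KF.quasiIso_tensor_map_of_isKFlat φ P.cochainComplex (GrothLib.KF.isKFlat_cochainComplex P)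
        length_homology_of_quasiIso (((GrothLib.KF.tensorCx (R := A)).obj P.cochainComplex).map φ) i
    let sh : Y⟦b⟧ ≅ (HomologicalComplex.single (ModuleCat.{u} A) (ComplexShape.up ℤ) 0).obj X :=
      ((CochainComplex.singleFunctors (ModuleCat.{u} A)).shiftIso b 0 b (add_zero b)).app X
    have hY : ∀ i, Module.length A ((tot P.cochainComplex Y).homology (b + i)) =
        Module.length A ((DRing.tensorCx P.cochainComplex X).homology i) := by
      intro i
      refine ((((HomologicalComplex.homologyFunctor (ModuleCat.{u} A) (ComplexShape.up ℤ) 0).shiftIso b i (b + i) rfl).app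
        (tot P.cochainComplex Y)).symm.toLinearEquiv.length_eq).trans ?_
      refine (length_homology_of_iso ((((GrothLib.KF.tensorCx (R := A)).obj P.cochainComplex).commShiftIso b).app Y).symm i).trans ?_
      refine (length_homology_of_iso (((GrothLib.KF.tensorCx (R := A)).obj P.cochainComplex).mapIso sh) i).trans ?_
      exact (length_homology_of_iso (GrothLib.KF.singleIso P.cochainComplex X) i).symm
    have hXn : ∀ n, Module.length A (DRing.Tor A n X M) ≠ ⊤ := fun n => by
      rw [length_tor_congr eXb.toLinearEquiv]; exact hT b n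
    obtain ⟨fX, eulX⟩ := eul_tensorCx P hP X hXn
    have hY' : ∀ i, Module.length A ((tot P.cochainComplex Y).homology i) =
        Module.length A ((DRing.tensorCx P.cochainComplex X).homology (i - b)) := fun i => by
      rw [← hY (i - b), show b + (i - b) = i by ring]
    have fY : Fin' (tot P.cochainComplex Y) :=
      ⟨fun i => by rw [hY']; exact fX.1 _,
        (fX.2.image fun i => i + b).subset fun i hi => ⟨i - b, by
          show Module.length A _ ≠ 0
          rw [← hY']; exact hi, by ring⟩⟩
    have eulY : eul (tot P.cochainComplex Y) = ((b.negOnePow : ℤˣ) : ℤ) * IntMult.chi A (K.homology b) M := by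
      rw [← chi_congr eXb.toLinearEquiv, ← eulX, eul, eul, mul_finsum]
      · refine (finsum_comp_equiv (Equiv.addRight b)).symm.trans (finsum_congr fun i => ?_)
        show (((i + b).negOnePow : ℤˣ) : ℤ) * _ = _
        rw [hY', Equiv.coe_addRight, add_sub_cancel_right, Int.negOnePow_add, Units.val_mul]
        ring
    have h3 : ∀ i, Module.length A ((tot P.cochainComplex Y).homology i) =
        Module.length A ((tot P.cochainComplex T.X₃).homology i) := fun i =>
      (hq eX.inv i).trans ((hq (G.ιTruncLE b) i).trans (hq (K.shortComplexTruncLEX₃ToTruncGE (b - 1) b _) i).symm)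
    obtain ⟨f2, e2⟩ := eul_add
      (GrothLib.HTor22.tensorCx_shortExact_flat P.cochainComplex (GrothLib.KF.termwiseFlat_cochainComplex P) hex)
      h1.1 (fY.congr h3)
    refine ⟨f2, e2.trans ?_⟩
    show eul (tot P.cochainComplex (K.truncLE (b - 1))) + eul (tot P.cochainComplex T.X₃) = _
    rw [h1.2, ← eul_congr h3, eulY, Finset.sum_insert (fun h => lt_irrefl b (hb b h)), add_comm]
    congr 1
    refine Finset.sum_congr rfl fun j hj => ?_
    obtain ⟨e⟩ := hlo j (by have := hb j hj; omega)
    rw [chi_congr e.toLinearEquiv]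

/-- The symmetry of the double complexes. -/
noncomputable def assocIso (P R : DRing.Cx A) (N : ModuleCat.{u} A) :
    tot R (DRing.tensorCx P N) ≅ tot P (DRing.tensorCx R N) :=
  let B₁ := (((curriedTensor (ModuleCat.{u} A)).mapBifunctorHomologicalComplex (ComplexShape.up ℤ) (ComplexShape.up ℤ)).obj P).obj (DRing.tensorCx R N)
  let B₂ := (((curriedTensor (ModuleCat.{u} A)).mapBifunctorHomologicalComplex (ComplexShape.up ℤ) (ComplexShape.up ℤ)).obj R).obj (DRing.tensorCx P N)
  let e : B₂ ≅ B₁.flip :=
    HomologicalComplex.Hom.isoOfComponents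
      (fun j => HomologicalComplex.Hom.isoOfComponents
        (fun i => (TensorProduct.leftComm A (R.X j) (P.X i) N).toModuleIso)
        (fun i i' _ => ModuleCat.MonoidalCategory.tensor_ext fun x y => by
          revert y
          intro (y : P.X i ⊗[A] N)
          induction y with
          | zero => simp
          | add y y' h h' => simp only [tmul_add, map_add, h, h']
          | tmul p m => rfl))
      (fun j j' _ => HomologicalComplex.hom_ext _ _ fun i => ModuleCat.MonoidalCategory.tensor_ext fun x y => by
          revert y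
          intro (y : P.X i ⊗[A] N)
          induction y with
          | zero => simp
          | add y y' h h' => simp only [tmul_add, map_add, h, h']
          | tmul p m => rfl)
  HomologicalComplex₂.total.mapIso e (ComplexShape.up ℤ) ≪≫ B₁.totalFlipIso (ComplexShape.up ℤ)

/-- Associativity of the Euler characteristic. -/
theorem chi_assoc {a : ℕ} (M N L : Type u) [AddCommGroup M] [Module A M] [AddCommGroup N] [Module A N]
    [AddCommGroup L] [Module A L] (hM : HasProjectiveDimensionLE (ModuleCat.of A M) a)
    (hL : HasProjectiveDimensionLE (ModuleCat.of A L) a)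
    (h₁ : ∀ j n, Module.length A (DRing.Tor A n (DRing.Tor A j N L) M) ≠ ⊤)
    (h₂ : ∀ j n, Module.length A (DRing.Tor A n (DRing.Tor A j N M) L) ≠ ⊤) :
    ∑ j ∈ Finset.range (a + 1), (-1 : ℤ) ^ j * IntMult.chi A (DRing.Tor A j N L) M =
      ∑ j ∈ Finset.range (a + 1), (-1 : ℤ) ^ j * IntMult.chi A (DRing.Tor A j N M) L := by
  obtain ⟨P, hP⟩ := GrothLib.PdResolution.exists_resolution a _ hM
  obtain ⟨R, hR⟩ := GrothLib.PdResolution.exists_resolution a _ hL
  let S : Finset ℤ := (Finset.range (a + 1)).map ⟨fun n : ℕ => -(n : ℤ), fun x y e => by simpa using e⟩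
  have key : ∀ (M L : Type u) [AddCommGroup M] [Module A M] [AddCommGroup L] [Module A L]
      (P : ProjectiveResolution (ModuleCat.of A M)) (R : ProjectiveResolution (ModuleCat.of A L)),
      (∀ i, a < i → IsZero (P.complex.X i)) → (∀ i, a < i → IsZero (R.complex.X i)) →
      (∀ j n, Module.length A (DRing.Tor A n (DRing.Tor A j N L) M) ≠ ⊤) →
      eul (tot P.cochainComplex (DRing.tensorCx R.cochainComplex (ModuleCat.of A N))) =
        ∑ j ∈ Finset.range (a + 1), (-1 : ℤ) ^ j * IntMult.chi A (DRing.Tor A j N L) M := by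
    intro M L _ _ _ _ P R hP hR h
    have hpos : ∀ i : ℤ, 0 < i → IsZero ((DRing.tensorCx R.cochainComplex (ModuleCat.of A N)).homology i) :=
      fun i hi => (HomologicalComplex.exactAt_iff_isZero_homology _ _).1 (HomologicalComplex.ExactAt.of_isZero
        ((tensorRight _).map_isZero (GrothLib.KF.vanishesAbove_cochainComplex R i hi)))
    have hbig : ∀ n : ℕ, a < n → IsZero ((DRing.tensorCx R.cochainComplex (ModuleCat.of A N)).homology (-(n : ℤ))) :=
      fun n hn => by
        haveI : Subsingleton (DRing.Tor A n N L) := by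
          rw [← Module.length_eq_zero_iff (R := A)]
          exact (length_tor R N n).trans (length_eq_zero_above R N hR hn)
        obtain ⟨e⟩ := GrothLib.HTor22.nonempty_tensorCx_homology_iso (ModuleCat.of A N) R n
        exact (ModuleCat.isZero_iff_subsingleton.2 ‹_›).of_iso e
    have h' := eul_tot P hP S (DRing.tensorCx R.cochainComplex (ModuleCat.of A N)) (fun j hj => by
        by_cases h0 : 0 < j
        · exact hpos j h0
        · have := hbig (-j).toNat (by
            by_contra hle
            exact hj (Finset.mem_map.2 ⟨(-j).toNat, Finset.mem_range.2 (by omega), by simp; omega⟩))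
          rwa [show -((-j).toNat : ℤ) = j by omega] at this)
      (fun j n => by
        by_cases h0 : 0 < j
        · haveI := ModuleCat.subsingleton_of_isZero (hpos j h0)
          rw [length_tor_of_subsingleton]; exact ENat.zero_ne_top
        · obtain ⟨k, rfl⟩ : ∃ k : ℕ, j = -(k : ℤ) := ⟨(-j).toNat, by omega⟩
          obtain ⟨e⟩ := GrothLib.HTor22.nonempty_tensorCx_homology_iso (ModuleCat.of A N) R k
          rw [length_tor_congr e.toLinearEquiv]; exact h k n)
    rw [h'.2, Finset.sum_map]
    refine Finset.sum_congr rfl fun n _ => ?_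
    obtain ⟨e⟩ := GrothLib.HTor22.nonempty_tensorCx_homology_iso (ModuleCat.of A N) R n
    simp only [Function.Embedding.coeFn_mk]
    rw [chi_congr e.toLinearEquiv, Int.negOnePow_neg]
    congr 1
  rw [← key M L P R hP hR h₁, ← key L M R P hR hP h₂]
  exact eul_congr (length_homology_of_iso (assocIso R.cochainComplex P.cochainComplex (ModuleCat.of A N)))

end GrothLib.ChiDev4
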