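import Groth.Agent.Lib.ChiDev4.Main
import Groth.Agent.Lib.ChiDev4.Assoc
import Groth.Agent.Lib.TorFlatBC.Basic
import Groth.Agent.Lib.HTor22.TorSemilinear

/-! Associativity of intersection products. -/

set_option autoImplicit false
set_option linter.style.haveILetI false
set_option backward.isDefEq.respectTransparency false
set_option maxHeartbeats 1000000

universe u

open CategoryTheory AlgebraicGeometry IsLocalRing TopologicalSpace TensorProduct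
open GrothLib.CycDiv (primeOf)

namespace GrothLib.ChiDev4

theorem lenE_eq_tensor {A : Type u} [CommRing A] (Q : PrimeSpectrum A) (S : Type u) [CommRing S] [Algebra A S]
    [IsLocalization.AtPrime S Q.asIdeal] (T : Type u) [AddCommGroup T] [Module A T] :
    lenE Q T = Module.length S (S ⊗[A] T) := by
  let e : Localization.AtPrime Q.asIdeal ≃ₐ[A] S := IsLocalization.algEquiv Q.asIdeal.primeCompl _ _
  letI : Algebra (Localization.AtPrime Q.asIdeal) S := e.toAlgHom.toRingHom.toAlgebra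
  haveI : IsScalarTower A (Localization.AtPrime Q.asIdeal) S :=
    IsScalarTower.of_algebraMap_eq' e.toAlgHom.comp_algebraMap.symm
  rw [← Module.length_eq_of_surjective (S := Localization.AtPrime Q.asIdeal) (R := S) (M := S ⊗[A] T) e.surjective]
  haveI : IsLocalizedModule Q.asIdeal.primeCompl (TensorProduct.mk A S T 1) :=
    (isLocalizedModule_iff_isBaseChange Q.asIdeal.primeCompl S _).2 (TensorProduct.isBaseChange A T S)
  let e' := IsLocalizedModule.iso Q.asIdeal.primeCompl (TensorProduct.mk A S T 1)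
  exact (LinearEquiv.extendScalarsOfIsLocalization Q.asIdeal.primeCompl (Localization.AtPrime Q.asIdeal) e').length_eq

theorem lenE_tor {A : Type u} [CommRing A] (Q : PrimeSpectrum A) (S : Type u) [CommRing S] [Algebra A S]
    [IsLocalization.AtPrime S Q.asIdeal] (J₁ J₂ : Ideal A) (j : ℕ) :
    lenE Q (DRing.Tor A j (A ⧸ J₁) (A ⧸ J₂)) =
      Module.length S (DRing.Tor S j (S ⧸ J₁.map (algebraMap A S)) (S ⧸ J₂.map (algebraMap A S))) := by
  haveI : Module.Flat A S := IsLocalization.flat S Q.asIdeal.primeCompl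
  rw [lenE_eq_tensor Q S]
  obtain ⟨e⟩ := GrothLib.TorFlatBC.nonempty_iso (algebraMap A S) (by rwa [RingHom.Flat, toAlgebra_algebraMap])
    (ModuleCat.of A (A ⧸ J₁)) (ModuleCat.of A (A ⧸ J₂)) j
  obtain ⟨x⟩ := GrothLib.HTor22.nonempty_extend_iso (A := A) (A' := S) (DRing.Tor A j (A ⧸ J₁) (A ⧸ J₂))
  obtain ⟨x₁⟩ := GrothLib.HTor22.nonempty_extend_iso (A := A) (A' := S) (A ⧸ J₁)
  obtain ⟨x₂⟩ := GrothLib.HTor22.nonempty_extend_iso (A := A) (A' := S) (A ⧸ J₂)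
  let y₁ := x₁ ≪≫ (Algebra.TensorProduct.quotIdealMapEquivTensorQuot S J₁).toLinearEquiv.symm.toModuleIso
  let y₂ := x₂ ≪≫ (Algebra.TensorProduct.quotIdealMapEquivTensorQuot S J₂).toLinearEquiv.symm.toModuleIso
  exact (x.symm ≪≫ e ≪≫ ((CategoryTheory.Tor (ModuleCat.{u} S) j).mapIso y₁).app _ ≪≫
    ((CategoryTheory.Tor (ModuleCat.{u} S) j).obj _).mapIso y₂).toLinearEquiv.length_eq

variable {X : Scheme.{u}}

theorem dim_stalk [IsIntegral X] {δ : X → ℤ} (hδ : Cyc.IsDimFun X δ) (ζ : X) :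
    ringKrullDim (X.presheaf.stalk ζ) = ((δ (genericPoint X) - δ ζ).toNat : WithBot ℕ∞) := by
  have hbot : primeOf (genericPoint_specializes ζ) = ⊥ := by
    refine (eq_bot_iff).2 fun a ha => ?_
    rw [GrothLib.CycDiv.mem_primeOf_iff] at ha
    have h0 : maximalIdeal (X.presheaf.stalk (genericPoint X)) = ⊥ :=
      isField_iff_maximalIdeal_eq.1 (Field.toIsField X.functionField)
    rw [h0, Ideal.mem_bot] at ha
    exact Ideal.mem_bot.2 (GrothLib.MorQ9.injective_stalkSpecializes_generic ζ (ha.trans (map_zero _).symm))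
  rw [← GrothLib.MultOne4.dim_quotient_primeOf hδ (genericPoint_specializes ζ),
    ringKrullDim_eq_of_ringEquiv ((Ideal.quotEquivOfEq hbot).trans (RingEquiv.quotientBot _))]

variable {K : Type u} [Field K] [IsAlgClosed K] (f : X ⟶ Spec (CommRingCat.of K)) [Smooth f] [IsIntegral X]

/-- The value of an indicator product. -/
theorem interProd_indicator (δ : X → ℤ) (n : ℤ) (ξ η x : X) :
    IntMult.interProd δ n (Set.indicator {ξ} 1) (Set.indicator {η} 1) x =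
      ∑ᶠ (_ : ξ ⤳ x ∧ η ⤳ x ∧ δ ξ + δ η - n = δ x), IntMult.mult (IntMult.ptIdeal ξ) (IntMult.ptIdeal η) x := by
  classical
  rw [finsum_eq_if]
  show (∑ᶠ p : {p : X × X // p.1 ⤳ x ∧ p.2 ⤳ x ∧ δ p.1 + δ p.2 - n = δ x},
    Set.indicator {ξ} (1 : X → ℤ) p.1.1 * Set.indicator {η} (1 : X → ℤ) p.1.2 *
      IntMult.mult (IntMult.ptIdeal p.1.1) (IntMult.ptIdeal p.1.2) x) = _
  split_ifs with h
  · rw [finsum_eq_single _ ⟨(ξ, η), h⟩ fun p hp => ?_]
    · simp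
    · by_contra hne
      obtain ⟨h12, -⟩ := mul_ne_zero_iff.1 hne
      obtain ⟨h1, h2⟩ := mul_ne_zero_iff.1 h12
      exact hp (Subtype.ext (Prod.ext (Set.mem_singleton_iff.1 (Set.mem_of_indicator_ne_zero h1)) (Set.mem_singleton_iff.1 (Set.mem_of_indicator_ne_zero h2))))
  · refine finsum_eq_zero_of_forall_eq_zero fun p => ?_
    by_contra hne
    obtain ⟨h12, -⟩ := mul_ne_zero_iff.1 hne
    obtain ⟨h1, h2⟩ := mul_ne_zero_iff.1 h12
    have e1 : p.1.1 = ξ := Set.mem_singleton_iff.1 (Set.mem_of_indicator_ne_zero h1)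
    have e2 : p.1.2 = η := Set.mem_singleton_iff.1 (Set.mem_of_indicator_ne_zero h2)
    exact h ⟨e1 ▸ p.2.1, e2 ▸ p.2.2.1, e1 ▸ e2 ▸ p.2.2.2⟩

theorem interProd_indicator_ne {δ : X → ℤ} {n : ℤ} {ξ η x : X}
    (h : IntMult.interProd δ n (Set.indicator {ξ} 1) (Set.indicator {η} 1) x ≠ 0) :
    ξ ⤳ x ∧ η ⤳ x ∧ δ ξ + δ η - n = δ x := by
  classical
  rw [interProd_indicator, finsum_eq_if] at h
  exact (ite_ne_right_iff.1 h).1

include f in
/-- One side of associativity. -/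
theorem side {δ : X → ℤ} (hX : Cyc.IsSetup X δ) (n : ℤ) (hn : δ (genericPoint X) = n) {ζ ξ₁ ξ₂ ξ₃ : X}
    (h₁ : ξ₁ ⤳ ζ) (h₂ : ξ₂ ⤳ ζ) (h₃ : ξ₃ ⤳ ζ)
    (h₁₂ : ∀ x : X, ξ₁ ⤳ x → ξ₂ ⤳ x → δ x ≤ δ ξ₁ + δ ξ₂ - n)
    (h₁₂₃ : ∀ x : X, ξ₁ ⤳ x → ξ₂ ⤳ x → ξ₃ ⤳ x → δ x ≤ δ ζ)
    (hζ : δ ζ = δ ξ₁ + δ ξ₂ + δ ξ₃ - 2 * n) :
    (∀ j i, Module.length (X.presheaf.stalk ζ) (DRing.Tor (X.presheaf.stalk ζ) i
      (DRing.Tor (X.presheaf.stalk ζ) j (↑(X.presheaf.stalk ζ) ⧸ primeOf h₁) (↑(X.presheaf.stalk ζ) ⧸ primeOf h₂))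
      (↑(X.presheaf.stalk ζ) ⧸ primeOf h₃)) ≠ ⊤) ∧
    ∃ S : Finset (PrimeSpectrum (X.presheaf.stalk ζ)),
      (∀ Q, Q ∈ S ↔ ξ₁ ⤳ X.fromSpecStalk ζ Q ∧ ξ₂ ⤳ X.fromSpecStalk ζ Q ∧
        δ ξ₁ + δ ξ₂ - n = δ (X.fromSpecStalk ζ Q)) ∧
      ∑ Q ∈ S, IntMult.mult (IntMult.ptIdeal ξ₂) (IntMult.ptIdeal ξ₁) (X.fromSpecStalk ζ Q) *
          IntMult.chi (X.presheaf.stalk ζ) (↑(X.presheaf.stalk ζ) ⧸ Q.asIdeal) (↑(X.presheaf.stalk ζ) ⧸ primeOf h₃) =
        ∑ j ∈ Finset.range ((n - δ ζ).toNat + 1), (-1 : ℤ) ^ j * IntMult.chi (X.presheaf.stalk ζ)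
          (DRing.Tor (X.presheaf.stalk ζ) j (↑(X.presheaf.stalk ζ) ⧸ primeOf h₁) (↑(X.presheaf.stalk ζ) ⧸ primeOf h₂))
          (↑(X.presheaf.stalk ζ) ⧸ primeOf h₃) := by
  classical
  haveI := hX.1
  have hδ : Cyc.IsDimFun X δ := hX.2.2
  let A := X.presheaf.stalk ζ
  haveI hreg : IsRegularLocalRing A := GrothLib.WeilExt.isRegularLocalRing_stalk_of_smooth f
    (GrothLib.WeilExt.isRegularLocalRing_stalk_spec K) ζ
  have ha : ringKrullDim A = ((n - δ ζ).toNat : WithBot ℕ∞) := by rw [dim_stalk hδ, hn]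
  let pt : PrimeSpectrum A → X := fun P => X.fromSpecStalk ζ P
  have hsp : ∀ P : PrimeSpectrum A, pt P ⤳ ζ := fun P => GrothLib.CycBasic.specializes_fromSpecStalk P
  have hinj : Function.Injective pt := (X.fromSpecStalk ζ).isEmbedding.injective
  have hle : ∀ {ξ : X} (h : ξ ⤳ ζ) (P : PrimeSpectrum A), primeOf h ≤ P.asIdeal ↔ ξ ⤳ pt P := by
    intro ξ h P
    rw [show (ξ ⤳ pt P) ↔ (X.fromSpecStalk ζ ⟨primeOf h, inferInstance⟩ ⤳ X.fromSpecStalk ζ P) from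
      by rw [GrothLib.MultOne4.fromSpecStalk_primeOf], ← GrothLib.CycBasic.le_iff_specializes]
    exact Iff.rfl
  have hdim : ∀ P : PrimeSpectrum A, ringKrullDim (A ⧸ P.asIdeal) = ((δ (pt P) - δ ζ).toNat : WithBot ℕ∞) := by
    intro P
    rw [← GrothLib.MultOne4.dim_quotient_primeOf hδ (hsp P),
      ringKrullDim_eq_of_ringEquiv (Ideal.quotEquivOfEq (primeOf_fromSpecStalk P))]
  let Z : Set (PrimeSpectrum A) := {Q | primeOf h₁ ≤ Q.asIdeal ∧ primeOf h₂ ≤ Q.asIdeal}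
  let T := {Q : PrimeSpectrum A | Q ∈ Z ∧ δ (pt Q) = δ ξ₁ + δ ξ₂ - n}
  have hZle : ∀ Q ∈ Z, δ (pt Q) ≤ δ ξ₁ + δ ξ₂ - n := fun Q hQ =>
    h₁₂ _ ((hle h₁ Q).1 hQ.1) ((hle h₂ Q).1 hQ.2)
  have anti : ∀ P ∈ Z, ∀ Q ∈ T, P.asIdeal ≤ Q.asIdeal → P = Q := by
    intro P hP Q hQ hPQ
    by_contra hne
    have h1 := hZle P hP
    have h2 := (hδ (pt P) (pt Q) (GrothLib.CycBasic.le_iff_specializes.1 hPQ) fun e => hne (hinj e)).1
    have h3 : δ (pt Q) = δ ξ₁ + δ ξ₂ - n := hQ.2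
    omega
  have hfinT : T.Finite := by
    refine Set.Finite.of_finite_image (f := PrimeSpectrum.asIdeal)
      ((Ideal.finite_minimalPrimes_of_isNoetherianRing A (primeOf h₁ ⊔ primeOf h₂)).subset ?_)
      fun P _ Q _ e => PrimeSpectrum.ext e
    rintro _ ⟨Q, hQ, rfl⟩
    refine ⟨⟨Q.isPrime, sup_le hQ.1.1 hQ.1.2⟩, fun q hq hqQ => ?_⟩
    obtain ⟨hqp, hqa⟩ := hq
    exact (congrArg PrimeSpectrum.asIdeal
      (anti ⟨q, hqp⟩ ⟨le_sup_left.trans hqa, le_sup_right.trans hqa⟩ Q hQ hqQ)).ge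
  let S := hfinT.toFinset
  let P₃ : PrimeSpectrum A := ⟨primeOf h₃, inferInstance⟩
  have hlen : ∀ Q ∈ Z, Module.length A (A ⧸ (P₃.asIdeal ⊔ Q.asIdeal)) ≠ ⊤ := by
    intro Q hQ
    refine (GrothLib.FiniteLengthSupp.length_lt_top ?_).ne
    rw [Module.supportDim_quotient_eq_ringKrullDim, ringKrullDim_quotient, Order.krullDim_nonpos_iff_forall_isMax]
    rintro ⟨L, hL⟩ ⟨L', hL'⟩ hLL
    rw [PrimeSpectrum.mem_zeroLocus, SetLike.coe_subset_coe] at hL
    have h4 : pt L = ζ := by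
      by_contra hne
      have := (hδ (pt L) ζ (hsp L) hne).1
      have := h₁₂₃ (pt L) ((hle h₁ L).1 (hQ.1.trans (le_sup_right.trans hL)))
        ((hle h₂ L).1 (hQ.2.trans (le_sup_right.trans hL))) ((hle h₃ L).1 (le_sup_left.trans hL))
      omega
    have hPM : L = closedPoint A := hinj (h4.trans Scheme.fromSpecStalk_closedPoint.symm)
    show L' ≤ L
    rw [hPM]
    exact IsLocalRing.le_maximalIdeal L'.isPrime.ne_top
  have hpd : ∀ (M : Type u) [AddCommGroup M] [Module A M] [Module.Finite A M],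
      HasProjectiveDimensionLE (ModuleCat.of A M) (n - δ ζ).toNat :=
    fun M _ _ _ => GrothLib.Serre.pdLE_of_isRegularLocalRing A _ ha M
  have hloc : ∀ Q : PrimeSpectrum A, ∀ j,
      lenE Q (DRing.Tor A j (A ⧸ primeOf h₁) (A ⧸ primeOf h₂)) =
        Module.length (X.presheaf.stalk (pt Q)) (DRing.Tor (X.presheaf.stalk (pt Q)) j
          (↑(X.presheaf.stalk (pt Q)) ⧸ (primeOf h₁).map (X.presheaf.stalkSpecializes (hsp Q)).hom)
          (↑(X.presheaf.stalk (pt Q)) ⧸ (primeOf h₂).map (X.presheaf.stalkSpecializes (hsp Q)).hom)) := by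
    intro Q j
    letI := (X.presheaf.stalkSpecializes (hsp Q)).hom.toAlgebra
    haveI : IsLocalization.AtPrime (X.presheaf.stalk (pt Q)) Q.asIdeal := by
      have h := GrothLib.CycDiv.isLocalization_stalkSpecializes (hsp Q)
      have hM : (primeOf (hsp Q)).primeCompl = Q.asIdeal.primeCompl :=
        SetLike.ext fun a => not_congr (SetLike.ext_iff.1 (primeOf_fromSpecStalk Q) a)
      show IsLocalization Q.asIdeal.primeCompl (X.presheaf.stalk (pt Q))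
      exact hM ▸ h
    exact lenE_tor Q (X.presheaf.stalk (pt Q)) _ _ j
  have hsupp : ∀ j, Module.support A (DRing.Tor A j (A ⧸ primeOf h₁) (A ⧸ primeOf h₂)) ⊆ Z := by
    intro j Q hQ
    have hne : lenE Q (DRing.Tor A j (A ⧸ primeOf h₁) (A ⧸ primeOf h₂)) ≠ 0 := by
      rw [lenE, ne_eq, Module.length_eq_zero_iff, not_subsingleton_iff_nontrivial]
      exact hQ
    letI := (X.presheaf.stalkSpecializes (hsp Q)).hom.toAlgebra
    haveI : IsLocalization.AtPrime (X.presheaf.stalk (pt Q)) Q.asIdeal := by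
      have h := GrothLib.CycDiv.isLocalization_stalkSpecializes (hsp Q)
      have hM : (primeOf (hsp Q)).primeCompl = Q.asIdeal.primeCompl :=
        SetLike.ext fun a => not_congr (SetLike.ext_iff.1 (primeOf_fromSpecStalk Q) a)
      show IsLocalization Q.asIdeal.primeCompl (X.presheaf.stalk (pt Q))
      exact hM ▸ h
    have hsub : ∀ (J : Ideal A), ¬ J ≤ Q.asIdeal →
        Subsingleton (↑(X.presheaf.stalk (pt Q)) ⧸ J.map (X.presheaf.stalkSpecializes (hsp Q)).hom) := by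
      intro J hJ
      obtain ⟨a, ha, ha'⟩ := SetLike.not_le_iff_exists.1 hJ
      exact Ideal.Quotient.subsingleton_iff.2 (Ideal.eq_top_of_isUnit_mem _ (Ideal.mem_map_of_mem _ ha)
        (IsLocalization.map_units (X.presheaf.stalk (pt Q)) (⟨a, ha'⟩ : Q.asIdeal.primeCompl)))
    constructor
    · by_contra h
      haveI := hsub _ h
      exact hne (by rw [hloc, length_tor_of_subsingleton])
    · by_contra h
      haveI := hsub _ h
      exact hne (by rw [hloc, GrothLib.KoszulEuler.length_tor_comm, length_tor_of_subsingleton])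
  have step : ∀ j,
      (∀ i, Module.length A (DRing.Tor A i (DRing.Tor A j (A ⧸ primeOf h₁) (A ⧸ primeOf h₂)) (A ⧸ P₃.asIdeal)) ≠ ⊤) ∧
      IntMult.chi A (DRing.Tor A j (A ⧸ primeOf h₁) (A ⧸ primeOf h₂)) (A ⧸ P₃.asIdeal) =
        ∑ Q ∈ S, ((lenE Q (DRing.Tor A j (A ⧸ primeOf h₁) (A ⧸ primeOf h₂))).toNat : ℤ) *
          IntMult.chi A (A ⧸ Q.asIdeal) (A ⧸ P₃.asIdeal) := by
    intro j
    haveI := finite_tor (A := A) (A ⧸ primeOf h₂) j (A ⧸ primeOf h₁)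
    refine devissage Z S (fun L hL Q hQ => anti L hL Q ((Set.Finite.mem_toFinset _).1 hQ))
      (fun N _ _ => IntMult.chi A N (A ⧸ P₃.asIdeal))
      (fun N _ _ => ∀ i, Module.length A (DRing.Tor A i N (A ⧸ P₃.asIdeal)) ≠ ⊤)
      (fun Q => IntMult.chi A (A ⧸ Q.asIdeal) (A ⧸ P₃.asIdeal)) ?_ ?_ ?_ ?_ _ (hsupp j)
    · intro N _ _ _
      exact ⟨fun i => by rw [length_tor_of_subsingleton]; exact ENat.zero_ne_top, chi_of_subsingleton N⟩
    · intro Q hQ _ N _ _ e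
      exact ⟨fun i => by rw [length_tor_congr e]; exact (finite_and_vanish f ζ P₃ Q (hlen Q hQ)).1 i,
        chi_congr e⟩
    · intro Q hQ hQS N _ _ e
      refine ⟨fun i => by rw [length_tor_congr e]; exact (finite_and_vanish f ζ P₃ Q (hlen Q hQ)).1 i,
        (chi_congr e).trans ((finite_and_vanish f ζ P₃ Q (hlen Q hQ)).2 ?_)⟩
      rw [hdim P₃, hdim Q, ha]
      have e1 : pt P₃ = ξ₃ := GrothLib.MultOne4.fromSpecStalk_primeOf h₃
      have h5 := hZle Q hQ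
      have h6 : δ (pt Q) ≠ δ ξ₁ + δ ξ₂ - n := fun h => hQS ((Set.Finite.mem_toFinset _).2 ⟨hQ, h⟩)
      have := GrothLib.CycBasic.delta_le hδ (hsp Q)
      have := GrothLib.CycBasic.delta_le hδ h₃
      rw [e1]
      exact_mod_cast (show (δ ξ₃ - δ ζ).toNat + (δ (pt Q) - δ ζ).toNat < (n - δ ζ).toNat by omega)
    · intro N₁ N₂ N₃ _ _ _ _ _ _ g₁ g₂ hf₁ hg₂ hex t1 t3
      exact chi_short (hpd (A ⧸ P₃.asIdeal)) hf₁ hg₂ hex t1 t3
  refine ⟨fun j i => (step j).1 i, S, fun Q => ?_, ?_⟩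
  · refine (Set.Finite.mem_toFinset _).trans ?_
    exact ⟨fun h => ⟨(hle h₁ Q).1 h.1.1, (hle h₂ Q).1 h.1.2, h.2.symm⟩,
      fun h => ⟨⟨(hle h₁ Q).2 h.1, (hle h₂ Q).2 h.2.1⟩, h.2.2.symm⟩⟩
  have hm : ∀ Q ∈ S, IntMult.mult (IntMult.ptIdeal ξ₂) (IntMult.ptIdeal ξ₁) (pt Q) =
      ∑ j ∈ Finset.range ((n - δ ζ).toNat + 1), (-1 : ℤ) ^ j *
        ((lenE Q (DRing.Tor A j (A ⧸ primeOf h₁) (A ⧸ primeOf h₂))).toNat : ℤ) := by
    intro Q hQ
    have hst : ∀ {ξ : X} (h : ξ ⤳ ζ), IntMult.stalkIdeal (IntMult.ptIdeal ξ) (pt Q) =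
        (primeOf h).map (X.presheaf.stalkSpecializes (hsp Q)).hom := by
      intro ξ h
      rw [← GrothLib.MultOne4.stalkIdeal_ptIdeal h, GrothLib.IntMult3.stalkIdeal_eq, GrothLib.IntMult3.stalkIdeal_eq,
        GrothLib.CartierDescent.stalkIdeal_map_specializes _ (hsp Q)]
    rw [IntMult.mult, hst h₁, hst h₂, IntMult.chi]
    simp only [← hloc]
    refine finsum_eq_sum_of_support_subset _ fun j hj => ?_
    rw [Finset.coe_range, Set.mem_Iio]
    by_contra hlt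
    obtain ⟨P, hP⟩ := GrothLib.PdResolution.exists_resolution _ _ (hpd (A ⧸ primeOf h₂))
    haveI : Subsingleton (DRing.Tor A j (A ⧸ primeOf h₁) (A ⧸ primeOf h₂)) := by
      rw [← Module.length_eq_zero_iff (R := A)]
      exact (length_tor P (A ⧸ primeOf h₁) j).trans (length_eq_zero_above P _ hP (by omega))
    haveI : Subsingleton (LocalizedModule Q.asIdeal.primeCompl (DRing.Tor A j (A ⧸ primeOf h₁) (A ⧸ primeOf h₂))) :=
      LocalizedModule.subsingleton_iff.2 fun m => ⟨1, one_mem _, Subsingleton.elim _ _⟩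
    exact hj (by simp [lenE, Module.length_eq_zero])
  calc ∑ Q ∈ S, IntMult.mult (IntMult.ptIdeal ξ₂) (IntMult.ptIdeal ξ₁) (pt Q) *
        IntMult.chi A (A ⧸ Q.asIdeal) (A ⧸ P₃.asIdeal)
      = ∑ Q ∈ S, ∑ j ∈ Finset.range ((n - δ ζ).toNat + 1), (-1 : ℤ) ^ j *
          (((lenE Q (DRing.Tor A j (A ⧸ primeOf h₁) (A ⧸ primeOf h₂))).toNat : ℤ) *
            IntMult.chi A (A ⧸ Q.asIdeal) (A ⧸ P₃.asIdeal)) :=
        Finset.sum_congr rfl fun Q hQ => by rw [hm Q hQ, Finset.sum_mul]; simp only [mul_assoc]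
    _ = _ := by
        rw [Finset.sum_comm]
        exact Finset.sum_congr rfl fun j _ => by rw [← Finset.mul_sum, ← (step j).2]

include f in
theorem interProd_assoc {δ : X → ℤ} (hX : Cyc.IsSetup X δ) (n : ℤ) (hn : δ (genericPoint X) = n) (ξU ξV ξW : X)
    (hUV : IntMult.IntersectProperly δ n (Set.indicator {ξU} 1) (Set.indicator {ξV} 1))
    (hVW : IntMult.IntersectProperly δ n (Set.indicator {ξV} 1) (Set.indicator {ξW} 1))
    (hUVW : ∀ ζ : X, ξU ⤳ ζ → ξV ⤳ ζ → ξW ⤳ ζ → δ ζ ≤ δ ξU + δ ξV + δ ξW - 2 * n) :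
    IntMult.interProd δ n (Set.indicator {ξU} 1) (IntMult.interProd δ n (Set.indicator {ξV} 1) (Set.indicator {ξW} 1)) =
      IntMult.interProd δ n (IntMult.interProd δ n (Set.indicator {ξU} 1) (Set.indicator {ξV} 1))
        (Set.indicator {ξW} 1) := by
  classical
  haveI := hX.1
  funext ζ
  show (∑ᶠ p : {p : X × X // p.1 ⤳ ζ ∧ p.2 ⤳ ζ ∧ δ p.1 + δ p.2 - n = δ ζ},
      Set.indicator {ξU} (1 : X → ℤ) p.1.1 *
        IntMult.interProd δ n (Set.indicator {ξV} 1) (Set.indicator {ξW} 1) p.1.2 *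
        IntMult.mult (IntMult.ptIdeal p.1.1) (IntMult.ptIdeal p.1.2) ζ) =
    ∑ᶠ p : {p : X × X // p.1 ⤳ ζ ∧ p.2 ⤳ ζ ∧ δ p.1 + δ p.2 - n = δ ζ},
      IntMult.interProd δ n (Set.indicator {ξU} 1) (Set.indicator {ξV} 1) p.1.1 *
        Set.indicator {ξW} (1 : X → ℤ) p.1.2 *
        IntMult.mult (IntMult.ptIdeal p.1.1) (IntMult.ptIdeal p.1.2) ζ
  by_cases hc : ξU ⤳ ζ ∧ ξV ⤳ ζ ∧ ξW ⤳ ζ ∧ δ ζ = δ ξU + δ ξV + δ ξW - 2 * n
  swap
  · rw [finsum_eq_zero_of_forall_eq_zero fun p => ?_, finsum_eq_zero_of_forall_eq_zero fun p => ?_]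
    · by_contra hne
      obtain ⟨h12, -⟩ := mul_ne_zero_iff.1 hne
      obtain ⟨h1, h2⟩ := mul_ne_zero_iff.1 h12
      obtain ⟨a, b, c⟩ := interProd_indicator_ne h1
      have e : p.1.2 = ξW := Set.mem_singleton_iff.1 (Set.mem_of_indicator_ne_zero h2)
      have h3 := p.2.2.2
      rw [e] at h3
      exact hc ⟨a.trans p.2.1, b.trans p.2.1, e ▸ p.2.2.1, by omega⟩
    · by_contra hne
      obtain ⟨h12, -⟩ := mul_ne_zero_iff.1 hne
      obtain ⟨h1, h2⟩ := mul_ne_zero_iff.1 h12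
      obtain ⟨a, b, c⟩ := interProd_indicator_ne h2
      have e : p.1.1 = ξU := Set.mem_singleton_iff.1 (Set.mem_of_indicator_ne_zero h1)
      have h3 := p.2.2.2
      rw [e] at h3
      exact hc ⟨e ▸ p.2.1, a.trans p.2.2.1, b.trans p.2.2.1, by omega⟩
  obtain ⟨hU, hV, hW, hζ⟩ := hc
  have hprop : ∀ {a b : X}, IntMult.IntersectProperly δ n (Set.indicator {a} 1) (Set.indicator {b} 1) →
      ∀ x : X, a ⤳ x → b ⤳ x → δ x ≤ δ a + δ b - n := fun h x ha hb =>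
    h _ _ x (by simp) (by simp) ha hb
  obtain ⟨f1, S1, hS1, s1⟩ := side f hX n hn hV hW hU (hprop hVW)
    (fun x a b c => hζ ▸ hUVW x c a b) (by omega)
  obtain ⟨f2, S2, hS2, s2⟩ := side f hX n hn hV hU hW (fun x a b => by have := hprop hUV x b a; omega)
    (fun x a b c => hζ ▸ hUVW x b a c) (by omega)
  haveI hreg : IsRegularLocalRing (X.presheaf.stalk ζ) := GrothLib.WeilExt.isRegularLocalRing_stalk_of_smooth f
    (GrothLib.WeilExt.isRegularLocalRing_stalk_spec K) ζ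
  have hpd : ∀ (M : Type u) [AddCommGroup M] [Module (X.presheaf.stalk ζ) M] [Module.Finite (X.presheaf.stalk ζ) M],
      HasProjectiveDimensionLE (ModuleCat.of (X.presheaf.stalk ζ) M) (n - δ ζ).toNat :=
    fun M _ _ _ => GrothLib.Serre.pdLE_of_isRegularLocalRing _ _ (by rw [dim_stalk hX.2.2, hn]) M
  have key := chi_assoc (↑(X.presheaf.stalk ζ) ⧸ primeOf hU) (↑(X.presheaf.stalk ζ) ⧸ primeOf hV)
    (↑(X.presheaf.stalk ζ) ⧸ primeOf hW) (hpd _) (hpd _) f1 f2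
  have hinj : Function.Injective fun P : PrimeSpectrum (X.presheaf.stalk ζ) => X.fromSpecStalk ζ P :=
    (X.fromSpecStalk ζ).isEmbedding.injective
  have hval : ∀ {a b x : X}, a ⤳ x → b ⤳ x → δ a + δ b - n = δ x →
      IntMult.interProd δ n (Set.indicator {a} 1) (Set.indicator {b} 1) x =
        IntMult.mult (IntMult.ptIdeal a) (IntMult.ptIdeal b) x := fun h1 h2 h3 => by
    rw [interProd_indicator, finsum_eq_if, if_pos ⟨h1, h2, h3⟩]
  have L : (∑ᶠ p : {p : X × X // p.1 ⤳ ζ ∧ p.2 ⤳ ζ ∧ δ p.1 + δ p.2 - n = δ ζ},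
      Set.indicator {ξU} (1 : X → ℤ) p.1.1 *
        IntMult.interProd δ n (Set.indicator {ξV} 1) (Set.indicator {ξW} 1) p.1.2 *
        IntMult.mult (IntMult.ptIdeal p.1.1) (IntMult.ptIdeal p.1.2) ζ) =
      ∑ Q ∈ S1, IntMult.mult (IntMult.ptIdeal ξW) (IntMult.ptIdeal ξV) (X.fromSpecStalk ζ Q) *
        IntMult.chi (X.presheaf.stalk ζ) (↑(X.presheaf.stalk ζ) ⧸ Q.asIdeal) (↑(X.presheaf.stalk ζ) ⧸ primeOf hU) := by
    let ι : {Q // Q ∈ S1} → {p : X × X // p.1 ⤳ ζ ∧ p.2 ⤳ ζ ∧ δ p.1 + δ p.2 - n = δ ζ} := fun Q =>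
      ⟨(ξU, X.fromSpecStalk ζ Q.1), hU, GrothLib.CycBasic.specializes_fromSpecStalk Q.1, by
        have := ((hS1 Q.1).1 Q.2).2.2
        show δ ξU + δ (X.fromSpecStalk ζ Q.1) - n = δ ζ
        omega⟩
    rw [finsum_eq_sum_of_support_subset _ (s := S1.attach.image ι), Finset.sum_image]
    · rw [← Finset.sum_attach S1]
      refine Finset.sum_congr rfl fun Q _ => ?_
      obtain ⟨q1, q2, q3⟩ := (hS1 Q.1).1 Q.2
      show Set.indicator {ξU} (1 : X → ℤ) ξU *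
        IntMult.interProd δ n (Set.indicator {ξV} 1) (Set.indicator {ξW} 1) (X.fromSpecStalk ζ Q.1) *
        IntMult.mult (IntMult.ptIdeal ξU) (IntMult.ptIdeal (X.fromSpecStalk ζ Q.1)) ζ = _
      rw [hval q1 q2 q3, show Set.indicator {ξU} (1 : X → ℤ) ξU = 1 from Set.indicator_of_mem rfl _, one_mul]
      congr 1
      · exact GrothLib.KoszulEuler.intMult_chi_comm _ _
      · rw [IntMult.mult, GrothLib.MultOne4.stalkIdeal_ptIdeal hU,
          GrothLib.MultOne4.stalkIdeal_ptIdeal (GrothLib.CycBasic.specializes_fromSpecStalk Q.1), primeOf_fromSpecStalk]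
    · intro Q _ Q' _ e
      exact Subtype.ext (hinj (congrArg Prod.snd (congrArg Subtype.val e)))
    · intro p hp
      obtain ⟨h12, -⟩ := mul_ne_zero_iff.1 hp
      obtain ⟨h1, h2⟩ := mul_ne_zero_iff.1 h12
      obtain ⟨a, b, c⟩ := interProd_indicator_ne h2
      have e : p.1.1 = ξU := Set.mem_singleton_iff.1 (Set.mem_of_indicator_ne_zero h1)
      have hQ : (⟨primeOf p.2.2.1, inferInstance⟩ : PrimeSpectrum (X.presheaf.stalk ζ)) ∈ S1 := by
        rw [hS1, GrothLib.MultOne4.fromSpecStalk_primeOf]; exact ⟨a, b, c⟩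
      exact Finset.mem_coe.2 (Finset.mem_image.2 ⟨⟨_, hQ⟩, Finset.mem_attach _ _,
        Subtype.ext (Prod.ext e.symm (GrothLib.MultOne4.fromSpecStalk_primeOf p.2.2.1))⟩)
  have R : (∑ᶠ p : {p : X × X // p.1 ⤳ ζ ∧ p.2 ⤳ ζ ∧ δ p.1 + δ p.2 - n = δ ζ},
      IntMult.interProd δ n (Set.indicator {ξU} 1) (Set.indicator {ξV} 1) p.1.1 *
        Set.indicator {ξW} (1 : X → ℤ) p.1.2 *
        IntMult.mult (IntMult.ptIdeal p.1.1) (IntMult.ptIdeal p.1.2) ζ) =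
      ∑ Q ∈ S2, IntMult.mult (IntMult.ptIdeal ξU) (IntMult.ptIdeal ξV) (X.fromSpecStalk ζ Q) *
        IntMult.chi (X.presheaf.stalk ζ) (↑(X.presheaf.stalk ζ) ⧸ Q.asIdeal) (↑(X.presheaf.stalk ζ) ⧸ primeOf hW) := by
    let ι : {Q // Q ∈ S2} → {p : X × X // p.1 ⤳ ζ ∧ p.2 ⤳ ζ ∧ δ p.1 + δ p.2 - n = δ ζ} := fun Q =>
      ⟨(X.fromSpecStalk ζ Q.1, ξW), GrothLib.CycBasic.specializes_fromSpecStalk Q.1, hW, by
        have := ((hS2 Q.1).1 Q.2).2.2
        show δ (X.fromSpecStalk ζ Q.1) + δ ξW - n = δ ζ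
        omega⟩
    rw [finsum_eq_sum_of_support_subset _ (s := S2.attach.image ι), Finset.sum_image]
    · rw [← Finset.sum_attach S2]
      refine Finset.sum_congr rfl fun Q _ => ?_
      obtain ⟨q1, q2, q3⟩ := (hS2 Q.1).1 Q.2
      show IntMult.interProd δ n (Set.indicator {ξU} 1) (Set.indicator {ξV} 1) (X.fromSpecStalk ζ Q.1) *
        Set.indicator {ξW} (1 : X → ℤ) ξW *
        IntMult.mult (IntMult.ptIdeal (X.fromSpecStalk ζ Q.1)) (IntMult.ptIdeal ξW) ζ = _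
      rw [hval q2 q1 (by omega), show Set.indicator {ξW} (1 : X → ℤ) ξW = 1 from Set.indicator_of_mem rfl _, mul_one]
      congr 1
      rw [IntMult.mult, GrothLib.MultOne4.stalkIdeal_ptIdeal hW,
        GrothLib.MultOne4.stalkIdeal_ptIdeal (GrothLib.CycBasic.specializes_fromSpecStalk Q.1), primeOf_fromSpecStalk]
      exact GrothLib.KoszulEuler.intMult_chi_comm _ _
    · intro Q _ Q' _ e
      exact Subtype.ext (hinj (congrArg Prod.fst (congrArg Subtype.val e)))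
    · intro p hp
      obtain ⟨h12, -⟩ := mul_ne_zero_iff.1 hp
      obtain ⟨h1, h2⟩ := mul_ne_zero_iff.1 h12
      obtain ⟨a, b, c⟩ := interProd_indicator_ne h1
      have e : p.1.2 = ξW := Set.mem_singleton_iff.1 (Set.mem_of_indicator_ne_zero h2)
      have hQ : (⟨primeOf p.2.1, inferInstance⟩ : PrimeSpectrum (X.presheaf.stalk ζ)) ∈ S2 := by
        rw [hS2, GrothLib.MultOne4.fromSpecStalk_primeOf]; exact ⟨b, a, by omega⟩
      exact Finset.mem_coe.2 (Finset.mem_image.2 ⟨⟨_, hQ⟩, Finset.mem_attach _ _,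
        Subtype.ext (Prod.ext (GrothLib.MultOne4.fromSpecStalk_primeOf p.2.1) e.symm)⟩)
  rw [L, R, s1, s2]
  exact key

end GrothLib.ChiDev4
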