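import Groth.Agent.Lib.ChiDev4.Pullback
import Groth.Agent.Lib.PBDeg17.GenSub

/-! Flat pullback of intersection products of cycles. -/

set_option autoImplicit false
set_option linter.style.haveILetI false
set_option backward.isDefEq.respectTransparency false

universe u

open CategoryTheory AlgebraicGeometry

namespace GrothLib.ChiDev4

open GrothLib GrothLib.PBDeg.K0Cyc

variable {X Y : Scheme.{u}}

theorem finite_terms {α β : X → ℤ} (hα : C1.LF α) (hβ : C1.LF β) (δ : X → ℤ) (n : ℤ) (ζ : X) :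
    (Function.support fun p : {p : X × X // p.1 ⤳ ζ ∧ p.2 ⤳ ζ ∧ δ p.1 + δ p.2 - n = δ ζ} =>
      α p.1.1 * β p.1.2 * IntMult.mult (IntMult.ptIdeal p.1.1) (IntMult.ptIdeal p.1.2) ζ).Finite := by
  obtain ⟨U, hU, hUf⟩ := hα ζ
  obtain ⟨V, hV, hVf⟩ := hβ ζ
  refine ((hUf.prod hVf).preimage Subtype.val_injective.injOn).subset fun p hp => ?_
  obtain ⟨h12, -⟩ := mul_ne_zero_iff.1 hp
  obtain ⟨h1, h2⟩ := mul_ne_zero_iff.1 h12
  exact ⟨⟨p.2.1.mem_open U.2 hU, h1⟩, ⟨p.2.2.1.mem_open V.2 hV, h2⟩⟩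

theorem interProd_sub_left {α α' β : X → ℤ} (hα : C1.LF α) (hα' : C1.LF α') (hβ : C1.LF β) (δ : X → ℤ) (n : ℤ) :
    IntMult.interProd δ n (α - α') β = IntMult.interProd δ n α β - IntMult.interProd δ n α' β := by
  funext ζ
  rw [Pi.sub_apply, IntMult.interProd, IntMult.interProd, IntMult.interProd,
    ← finsum_sub_distrib (finite_terms hα hβ δ n ζ) (finite_terms hα' hβ δ n ζ)]
  exact finsum_congr fun p => by rw [Pi.sub_apply]; ring

theorem interProd_sub_right {α β β' : X → ℤ} (hα : C1.LF α) (hβ : C1.LF β) (hβ' : C1.LF β') (δ : X → ℤ) (n : ℤ) :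
    IntMult.interProd δ n α (β - β') = IntMult.interProd δ n α β - IntMult.interProd δ n α β' := by
  funext ζ
  rw [Pi.sub_apply, IntMult.interProd, IntMult.interProd, IntMult.interProd,
    ← finsum_sub_distrib (finite_terms hα hβ δ n ζ) (finite_terms hα hβ' δ n ζ)]
  exact finsum_congr fun p => by rw [Pi.sub_apply]; ring

theorem pullFun_sub (f : X ⟶ Y) (δX : X → ℤ) (δY : Y → ℤ) (c : ℤ) (α β : Y → ℤ) :
    Cyc.pullFun f δX δY c (α - β) = Cyc.pullFun f δX δY c α - Cyc.pullFun f δX δY c β := by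
  funext x
  simp only [Pi.sub_apply, CycFlat.pullFun_apply]
  split_ifs <;> ring

theorem support_pos [IsLocallyNoetherian X] (α : X → ℤ) {x : X}
    (h : Nontrivial ((Cyc.cycleSheafPos α).presheaf.stalk x)) : ∃ ξ, 0 < α ξ ∧ ξ ⤳ x := by
  obtain ⟨i, hi⟩ := Set.mem_iUnion.1 (K0Sub.support_sigma_subset _ (CycBasic.nontrivial_iff_mem_support.1 h))
  exact ⟨i.1.1, i.1.2, specializes_iff_mem_closure.2 ((K0Sub.closureSheaf_data i.1.1).2.1 hi)⟩

theorem pullFun_interProd {K : Type u} [Field K] [IsAlgClosed K] (f : X ⟶ Y)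
    (gX : X ⟶ Spec (CommRingCat.of K)) (gY : Y ⟶ Spec (CommRingCat.of K)) (hf : f ≫ gY = gX)
    [Smooth gX] [IsIntegral X] [Smooth gY] [IsIntegral Y] [Flat f] {δX : X → ℤ} {δY : Y → ℤ}
    (hX : Cyc.IsSetup X δX) (hY : Cyc.IsSetup Y δY) (hδ : Cyc.DeltaCompat f δX δY)
    (n m : ℤ) (hn : δX (genericPoint X) = n) (hm : δY (genericPoint Y) = m)
    (e : ℕ) (he : (e : ℤ) = n - m) (hrel : Cyc.HasRelDim f e) (r s : ℤ)
    (α β : AlgebraicCycle Y ℤ) (hα : α ∈ Cyc.Zk Y δY r) (hβ : β ∈ Cyc.Zk Y δY s)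
    (hprop : IntMult.IntersectProperly δY m ⇑α ⇑β) :
    IntMult.IntersectProperly δX n (Cyc.pullFun f δX δY e ⇑α) (Cyc.pullFun f δX δY e ⇑β) ∧
      Cyc.pullFun f δX δY e (IntMult.interProd δY m ⇑α ⇑β) =
        IntMult.interProd δX n (Cyc.pullFun f δX δY e ⇑α) (Cyc.pullFun f δX δY e ⇑β) := by
  haveI : IsLocallyNoetherian X := hX.1
  haveI : IsLocallyNoetherian Y := hY.1
  haveI : LocallyOfFiniteType f := by
    haveI : LocallyOfFiniteType (f ≫ gY) := by rw [hf]; infer_instance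
    exact locallyOfFiniteType_of_comp f gY
  have hc := CycFlat.shift_of_hasRelDim f hrel hδ
  have hdX : Cyc.IsDimFun X δX := hX.2.2
  have hdY : Cyc.IsDimFun Y δY := hY.2.2
  have hle : ∀ x : X, δX x ≤ δY (f x) + e := fun x => (CycFlat.eq_add_iff_maxFib f hdX hc x).2
  refine ⟨fun ξ η ζ hξ hη hξζ hηζ => ?_, ?_⟩
  · rw [CycFlat.pullFun_apply] at hξ hη
    have e1 : δX ξ = δY (f ξ) + e := by_contra fun h => hξ (if_neg h)
    have e2 : δX η = δY (f η) + e := by_contra fun h => hη (if_neg h)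
    rw [if_pos e1] at hξ
    rw [if_pos e2] at hη
    have h1 := left_ne_zero_of_mul hξ
    have h2 := left_ne_zero_of_mul hη
    have h3 := hprop (f ξ) (f η) (f ζ) h1 h2 (hξζ.map f.continuous) (hηζ.map f.continuous)
    have := hle ζ
    omega
  have ka : ∀ x, (⇑α : Y → ℤ) x ≠ 0 → δY x = r := fun x hx => by_contra fun h => hx (hα x h)
  have kb : ∀ x, (⇑β : Y → ℤ) x ≠ 0 → δY x = s := fun x hx => by_contra fun h => hx (hβ x h)
  have la := C1.LF.of_cycle α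
  have lb := C1.LF.of_cycle β
  have ka' : ∀ x, (-⇑α : Y → ℤ) x ≠ 0 → δY x = r := fun x hx => ka x (fun h => hx (by simp [h]))
  have kb' : ∀ x, (-⇑β : Y → ℤ) x ≠ 0 → δY x = s := fun x hx => kb x (fun h => hx (by simp [h]))
  let F₁ := Cyc.cycleSheafPos (⇑α)
  let F₂ := Cyc.cycleSheafNeg (⇑α)
  let G₁ := Cyc.cycleSheafPos (⇑β)
  let G₂ := Cyc.cycleSheafNeg (⇑β)
  have cF₁ : Cyc.CohLe δY r F₁ := cohLe_pos hdY la fun x hx => (ka x hx).le
  have cF₂ : Cyc.CohLe δY r F₂ := cohLe_pos hdY (lf_neg la) fun x hx => (ka' x hx).le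
  have cG₁ : Cyc.CohLe δY s G₁ := cohLe_pos hdY lb fun x hx => (kb x hx).le
  have cG₂ : Cyc.CohLe δY s G₂ := cohLe_pos hdY (lf_neg lb) fun x hx => (kb' x hx).le
  have key : ∀ (a b : Y → ℤ), (∀ ξ, 0 < a ξ → ⇑α ξ ≠ 0) → (∀ η, 0 < b η → ⇑β η ≠ 0) →
      ∀ y, Nontrivial ((Cyc.cycleSheafPos a).presheaf.stalk y) →
        Nontrivial ((Cyc.cycleSheafPos b).presheaf.stalk y) → δY y ≤ r + s - m := by
    intro a b ha hb y h1 h2
    obtain ⟨ξ, hξ, hξy⟩ := support_pos a h1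
    obtain ⟨η, hη, hηy⟩ := support_pos b h2
    have h3 := hprop ξ η y (ha ξ hξ) (hb η hη) hξy hηy
    rw [ka ξ (ha ξ hξ), kb η (hb η hη)] at h3
    exact h3
  have pa : ∀ ξ, 0 < (⇑α : Y → ℤ) ξ → ⇑α ξ ≠ 0 := fun ξ h => h.ne'
  have na : ∀ ξ, 0 < (-⇑α : Y → ℤ) ξ → ⇑α ξ ≠ 0 := fun ξ h e => by simp [e] at h
  have pb : ∀ ξ, 0 < (⇑β : Y → ℤ) ξ → ⇑β ξ ≠ 0 := fun ξ h => h.ne'
  have nb : ∀ ξ, 0 < (-⇑β : Y → ℤ) ξ → ⇑β ξ ≠ 0 := fun ξ h e => by simp [e] at h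
  have S : ∀ (F G : Y.Modules), Cyc.CohLe δY r F → Cyc.CohLe δY s G →
      (∀ y, Nontrivial (F.presheaf.stalk y) → Nontrivial (G.presheaf.stalk y) → δY y ≤ r + s - m) →
      Cyc.pullFun f δX δY e (IntMult.interProd δY m (Cyc.sheafFun δY r F) (Cyc.sheafFun δY s G)) =
        IntMult.interProd δX n (Cyc.pullFun f δX δY e (Cyc.sheafFun δY r F))
          (Cyc.pullFun f δX δY e (Cyc.sheafFun δY s G)) := by
    intro F G hF hG hFG
    rw [(CycFlat.pullFun_sheafFun f hdX hc r F hF.1 hF.2).2, (CycFlat.pullFun_sheafFun f hdX hc s G hG.1 hG.2).2]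
    exact (pullFun_interProd_sheafFun f gX gY hf hX hY hδ n m hn hm e he hrel F G hF.1 hG.1 r s hF.2 hG.2 hFG).2
  have LY : ∀ {k : ℤ} {F : Y.Modules}, Cyc.CohLe δY k F → C1.LF (Cyc.sheafFun δY k F) :=
    fun hF => lf_sheafFun hdY hF
  have LX : ∀ {k : ℤ} {F : Y.Modules}, Cyc.CohLe δY k F → C1.LF (Cyc.pullFun f δX δY e (Cyc.sheafFun δY k F)) := by
    intro k F hF
    obtain ⟨hb, hp⟩ := CycFlat.pullFun_sheafFun f hdX hc k F hF.1 hF.2
    rw [hp]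
    exact lf_sheafFun hdX ⟨GrothLib.ModDesc.isCoh_pullback f F hF.1, hb⟩
  have eA : Cyc.sheafFun δY r F₁ - Cyc.sheafFun δY r F₂ = ⇑α := sheafFun_pos_sub_neg hdY la ka
  have eB : Cyc.sheafFun δY s G₁ - Cyc.sheafFun δY s G₂ = ⇑β := sheafFun_pos_sub_neg hdY lb kb
  have lB : C1.LF (Cyc.sheafFun δY s G₁ - Cyc.sheafFun δY s G₂) := by rw [eB]; exact lb
  have lB' : C1.LF (Cyc.pullFun f δX δY e (Cyc.sheafFun δY s G₁) - Cyc.pullFun f δX δY e (Cyc.sheafFun δY s G₂)) := by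
    intro x
    obtain ⟨U, hU, hUf⟩ := LX cG₁ x
    obtain ⟨V, hV, hVf⟩ := LX cG₂ x
    refine ⟨U ⊓ V, ⟨hU, hV⟩, (hUf.union hVf).subset fun y hy => ?_⟩
    obtain ⟨hyUV, hy⟩ := hy
    by_cases h1 : Cyc.pullFun f δX δY e (Cyc.sheafFun δY s G₁) y = 0
    · exact Or.inr ⟨hyUV.2, fun h2 => hy (by rw [Pi.sub_apply, h1, h2, sub_zero])⟩
    · exact Or.inl ⟨hyUV.1, h1⟩
  rw [← eA, ← eB, interProd_sub_left (LY cF₁) (LY cF₂) lB, interProd_sub_right (LY cF₁) (LY cG₁) (LY cG₂),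
    interProd_sub_right (LY cF₂) (LY cG₁) (LY cG₂), pullFun_sub, pullFun_sub, pullFun_sub,
    S F₁ G₁ cF₁ cG₁ (key _ _ pa pb), S F₁ G₂ cF₁ cG₂ (key _ _ pa nb),
    S F₂ G₁ cF₂ cG₁ (key _ _ na pb), S F₂ G₂ cF₂ cG₂ (key _ _ na nb),
    pullFun_sub, pullFun_sub, interProd_sub_left (LX cF₁) (LX cF₂) lB',
    interProd_sub_right (LX cF₁) (LX cG₁) (LX cG₂), interProd_sub_right (LX cF₂) (LX cG₁) (LX cG₂)]

end GrothLib.ChiDev4
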