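import Groth.Agent.Lib.IntMod
import Groth.Agent.Lib.CycDiv.Algebra
import Mathlib.RingTheory.Ideal.AssociatedPrime.Finiteness
import Mathlib.RingTheory.Support
import Mathlib.Algebra.Module.LocalizedModule.Exact

/-! Additive invariants of finite modules are determined by the values at primes. -/

set_option autoImplicit false
set_option linter.style.haveILetI false

universe u

namespace GrothLib.ChiDev4

variable {A : Type u} [CommRing A]

/-- The length of the localization at a prime. -/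
noncomputable def lenE (P : PrimeSpectrum A) (M : Type u) [AddCommGroup M] [Module A M] : ℕ∞ :=
  Module.length (Localization.AtPrime P.asIdeal) (LocalizedModule P.asIdeal.primeCompl M)

theorem lenE_congr (P : PrimeSpectrum A) {M N : Type u} [AddCommGroup M] [Module A M] [AddCommGroup N] [Module A N]
    (e : M ≃ₗ[A] N) : lenE P M = lenE P N :=
  GrothLib.IntMod.length_localized_congr _ e

theorem lenE_quot_self (P : PrimeSpectrum A) : lenE P (A ⧸ P.asIdeal) = 1 := by
  rw [lenE, GrothLib.CycDiv.length_localized_quot P.asIdeal (Localization.AtPrime P.asIdeal),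
    Localization.AtPrime.map_eq_maximalIdeal, Module.length_eq_one_iff]
  exact isSimpleModule_iff_isCoatom.2 (Ideal.isMaximal_def.1 (IsLocalRing.maximalIdeal.isMaximal _))

theorem lenE_quot_of_not_le (P Q : PrimeSpectrum A) (h : ¬ Q.asIdeal ≤ P.asIdeal) :
    lenE P (A ⧸ Q.asIdeal) = 0 := by
  rw [lenE, GrothLib.CycDiv.length_localized_quot P.asIdeal (Localization.AtPrime P.asIdeal)]
  obtain ⟨a, ha, ha'⟩ := SetLike.not_le_iff_exists.1 h
  haveI : Subsingleton (Localization.AtPrime P.asIdeal ⧸ Q.asIdeal.map (algebraMap A (Localization.AtPrime P.asIdeal))) :=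
    Ideal.Quotient.subsingleton_iff.2 (Ideal.eq_top_of_isUnit_mem _ (Ideal.mem_map_of_mem _ ha)
      (IsLocalization.map_units _ (⟨a, ha'⟩ : P.asIdeal.primeCompl)))
  exact Module.length_eq_zero

theorem lenE_exact (P : PrimeSpectrum A) {M₁ M₂ M₃ : Type u} [AddCommGroup M₁] [Module A M₁]
    [AddCommGroup M₂] [Module A M₂] [AddCommGroup M₃] [Module A M₃] (f : M₁ →ₗ[A] M₂) (g : M₂ →ₗ[A] M₃)
    (hf : Function.Injective f) (hg : Function.Surjective g) (hfg : Function.Exact f g) :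
    lenE P M₂ = lenE P M₁ + lenE P M₃ :=
  Module.length_eq_add_of_exact (LocalizedModule.map P.asIdeal.primeCompl f) (LocalizedModule.map P.asIdeal.primeCompl g)
    (LocalizedModule.map_injective _ _ hf) (LocalizedModule.map_surjective _ _ hg)
    (LocalizedModule.map_exact _ _ _ hfg)

variable [IsNoetherianRing A] (Z : Set (PrimeSpectrum A)) (S : Finset (PrimeSpectrum A))
  (hS : ∀ P ∈ Z, ∀ Q ∈ S, P.asIdeal ≤ Q.asIdeal → P = Q)
  (φ : ∀ (M : Type u) [AddCommGroup M] [Module A M], ℤ)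
  (T : ∀ (M : Type u) [AddCommGroup M] [Module A M], Prop) (c : PrimeSpectrum A → ℤ)
  (hzero : ∀ (M : Type u) [AddCommGroup M] [Module A M], Subsingleton M → T M ∧ φ M = 0)
  (hin : ∀ P ∈ Z, P ∈ S → ∀ (M : Type u) [AddCommGroup M] [Module A M], (M ≃ₗ[A] A ⧸ P.asIdeal) → T M ∧ φ M = c P)
  (hout : ∀ P ∈ Z, P ∉ S → ∀ (M : Type u) [AddCommGroup M] [Module A M], (M ≃ₗ[A] A ⧸ P.asIdeal) → T M ∧ φ M = 0)
  (hadd : ∀ (M₁ M₂ M₃ : Type u) [AddCommGroup M₁] [Module A M₁] [AddCommGroup M₂] [Module A M₂]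
    [AddCommGroup M₃] [Module A M₃] (f : M₁ →ₗ[A] M₂) (g : M₂ →ₗ[A] M₃),
    Function.Injective f → Function.Surjective g → Function.Exact f g → T M₁ → T M₃ →
      T M₂ ∧ φ M₂ = φ M₁ + φ M₃)

include hS hzero hin hout hadd in
/-- Dévissage. -/
theorem devissage (M : Type u) [AddCommGroup M] [Module A M] [Module.Finite A M] (hM : Module.support A M ⊆ Z) :
    T M ∧ φ M = ∑ Q ∈ S, ((lenE Q M).toNat : ℤ) * c Q := by
  classical
  suffices H : Module.support A M ⊆ Z → T M ∧ (∀ Q ∈ S, lenE Q M ≠ ⊤) ∧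
      φ M = ∑ Q ∈ S, ((lenE Q M).toNat : ℤ) * c Q from ⟨(H hM).1, (H hM).2.2⟩
  clear hM
  refine IsNoetherianRing.induction_on_isQuotientEquivQuotientPrime A ‹_›
    (motive := fun N _ _ _ => Module.support A N ⊆ Z → T N ∧ (∀ Q ∈ S, lenE Q N ≠ ⊤) ∧
      φ N = ∑ Q ∈ S, ((lenE Q N).toNat : ℤ) * c Q) ?_ ?_ ?_
  · intro N _ _ _ _ _
    have h0 : ∀ Q : PrimeSpectrum A, lenE Q N = 0 := fun Q => by
      haveI : Subsingleton (LocalizedModule Q.asIdeal.primeCompl N) :=
        LocalizedModule.subsingleton_iff.2 fun m => ⟨1, one_mem _, Subsingleton.elim _ _⟩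
      exact Module.length_eq_zero
    obtain ⟨h1, h2⟩ := hzero N inferInstance
    exact ⟨h1, fun Q _ => by simp [h0], by simp [h2, h0]⟩
  · intro N _ _ _ P e hN
    have hP : P ∈ Z := hN (by
      rw [e.support_eq, Module.support_eq_zeroLocus, Ideal.annihilator_quotient]
      exact (PrimeSpectrum.mem_zeroLocus _ _).2 le_rfl)
    have hne : ∀ Q ∈ S, Q ≠ P → lenE Q N = 0 := fun Q hQ hne => by
      rw [lenE_congr Q e]
      exact lenE_quot_of_not_le Q P fun h => hne (hS P hP Q hQ h).symm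
    have hself : lenE P N = 1 := by rw [lenE_congr P e, lenE_quot_self]
    have hfin : ∀ Q ∈ S, lenE Q N ≠ ⊤ := fun Q hQ => by
      rcases eq_or_ne Q P with rfl | h
      · simp [hself]
      · simp [hne Q hQ h]
    by_cases hPS : P ∈ S
    · obtain ⟨h1, h2⟩ := hin P hP hPS N e
      refine ⟨h1, hfin, ?_⟩
      rw [h2, Finset.sum_eq_single_of_mem P hPS fun Q hQ h => by simp [hne Q hQ h], hself]
      simp
    · obtain ⟨h1, h2⟩ := hout P hP hPS N e
      refine ⟨h1, hfin, ?_⟩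
      rw [h2, Finset.sum_eq_zero fun Q hQ => by simp [hne Q hQ (fun h => hPS (h ▸ hQ))]]
  · intro N₁ _ _ _ N₂ _ _ _ N₃ _ _ _ f g hf hg hfg i1 i3 hN
    obtain ⟨t1, f1, e1⟩ := i1 ((Module.support_subset_of_injective f hf).trans hN)
    obtain ⟨t3, f3, e3⟩ := i3 ((Module.support_subset_of_surjective g hg).trans hN)
    obtain ⟨t2, e2⟩ := hadd N₁ N₂ N₃ f g hf hg hfg t1 t3
    refine ⟨t2, fun Q hQ => ?_, ?_⟩
    · rw [lenE_exact Q f g hf hg hfg]
      exact (ENat.add_lt_top.2 ⟨(f1 Q hQ).lt_top, (f3 Q hQ).lt_top⟩).ne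
    · rw [e2, e1, e3, ← Finset.sum_add_distrib]
      refine Finset.sum_congr rfl fun Q hQ => ?_
      rw [lenE_exact Q f g hf hg hfg, ENat.toNat_add (f1 Q hQ) (f3 Q hQ)]
      push_cast
      ring

end GrothLib.ChiDev4
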