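import Groth.Agent.Lib.ChiDev4.ExtProd
import Groth.Agent.Lib.DiagRed13.Main
import Groth.Agent.Lib.QCoh.Pieces
import Groth.Agent.Lib.ArSurf29.Horizontal
import Groth.Agent.Lib.CycPush.Family
import Groth.Agent.Lib.CycPush.Linear

/-! Intersection with the diagonal of an exterior product. -/

set_option autoImplicit false
set_option linter.style.haveILetI false
set_option backward.isDefEq.respectTransparency false
set_option maxHeartbeats 1000000

universe u

open CategoryTheory AlgebraicGeometry IsLocalRing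
open Limits (pullback pullback.fst pullback.snd)
open GrothLib.CycFlat (MaxFib)
open GrothLib.CycDiv (primeOf)

namespace GrothLib.ChiDev4

theorem finsum_mem_eq_of_subset_singleton {ι : Type*} {s : Set ι} {g : ι → ℤ} {a : ι} (ha : a ∈ s)
    (h : ∀ w ∈ s, w ≠ a → g w = 0) : ∑ᶠ i ∈ s, g i = g a := by
  rw [← finsum_mem_singleton (f := g) (a := a)]
  refine finsum_mem_inter_support_eq' g s {a} fun w hw => ⟨fun hs => by_contra fun hne => hw (h w hs hne), fun e => ?_⟩
  obtain rfl : w = a := e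
  exact ha

theorem finsum_mem_eq_of_support_range {ι κ : Type*} (g : ι → ℤ) (e : κ → ι)
    (h : ∀ i, g i ≠ 0 → i ∈ Set.range e) : ∑ᶠ i ∈ Set.univ, g i = ∑ᶠ i ∈ Set.range e, g i :=
  finsum_mem_inter_support_eq' g _ _ fun i hi => iff_of_true trivial (h i hi)

theorem stalkIdeal_pt {Z : Scheme.{u}} {a ξ : Z} (h : a = ξ) :
    IntMult.stalkIdeal (IntMult.ptIdeal ξ) a = maximalIdeal (Z.presheaf.stalk a) := by
  subst h
  rw [GrothLib.MultOne4.stalkIdeal_ptIdeal specializes_rfl]
  ext x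
  rw [GrothLib.CycDiv.mem_primeOf_iff, Z.presheaf.stalkSpecializes_refl a]
  rfl

variable {K : Type u} [Field K] [IsAlgClosed K] {X : Scheme.{u}} (f : X ⟶ Spec (CommRingCat.of K)) [Smooth f]
  [IsSeparated f] [IsIntegral X] {δ : X → ℤ} {δ₂ : ↥(pullback f f) → ℤ}
  (hδ : Cyc.DeltaCompat f δ (fun _ => 0)) (h₂ : Cyc.DeltaCompat (pullback.fst f f ≫ f) δ₂ (fun _ => 0))

include hδ h₂ in
theorem exists_prod (ξ η : X) : ∃ z : ↥(pullback f f), pullback.fst f f z = ξ ∧ pullback.snd f f z = η ∧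
    δ₂ z = δ ξ + δ η ∧
    (∀ w, z ⤳ w ↔ ξ ⤳ pullback.fst f f w ∧ η ⤳ pullback.snd f f w) ∧
    Module.length ((pullback f f).presheaf.stalk z) ((pullback f f).presheaf.stalk z ⧸
      ((maximalIdeal (X.presheaf.stalk (pullback.fst f f z))).map ((pullback.fst f f).stalkMap z).hom ⊔
        (maximalIdeal (X.presheaf.stalk (pullback.snd f f z))).map ((pullback.snd f f).stalkMap z).hom)) = 1 ∧
    (∀ x, IntMult.mult (IntMult.ptIdeal ξ) (IntMult.ptIdeal η) x =
      IntMult.mult (IntMult.ptIdeal z) (Limits.pullback.diagonal f).ker (Limits.pullback.diagonal f x)) := by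
  have hsq : IsPullback (pullback.fst f f) (pullback.snd f f) f f := IsPullback.of_hasPullback f f
  obtain ⟨sX, -, sP⟩ := GrothLib.ExtP17.setups hδ hδ hsq h₂
  haveI := sX.1
  haveI := sP.1
  let V := (IntMult.ptIdeal ξ).subscheme
  let W := (IntMult.ptIdeal η).subscheme
  let iV : V ⟶ X := (IntMult.ptIdeal ξ).subschemeι
  let iW : W ⟶ X := (IntMult.ptIdeal η).subschemeι
  haveI : IsIntegral V := Snapper.isIntegral_pt ξ
  haveI : IsIntegral W := Snapper.isIntegral_pt η
  haveI : IsLocallyNoetherian V := LocallyOfFiniteType.isLocallyNoetherian iV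
  haveI : IsLocallyNoetherian W := LocallyOfFiniteType.isLocallyNoetherian iW
  haveI : GeometricallyIntegral (iV ≫ f) := GrothLib.Cube.geometricallyIntegral_of_isIntegral _
  haveI : Subsingleton ↥(Spec (CommRingCat.of K)) := inferInstanceAs (Subsingleton (PrimeSpectrum K))
  haveI : Flat (iV ≫ f) := inferInstance
  haveI : IsLocallyNoetherian (pullback (iV ≫ f) (iW ≫ f)) :=
    LocallyOfFiniteType.isLocallyNoetherian (pullback.snd (iV ≫ f) (iW ≫ f))
  haveI : IsIntegral (pullback (iV ≫ f) (iW ≫ f)) :=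
    GeometricallyIntegral.isIntegral_of_isLocallyNoetherian (pullback.snd (iV ≫ f) (iW ≫ f))
  let i : pullback (iV ≫ f) (iW ≫ f) ⟶ pullback f f :=
    pullback.map (iV ≫ f) (iW ≫ f) f f iV iW (𝟙 _) (Category.comp_id _) (Category.comp_id _)
  haveI : IsClosedImmersion i :=
    MorphismProperty.pullbackMap (P := @IsClosedImmersion) (inferInstanceAs (IsClosedImmersion iV))
      (inferInstanceAs (IsClosedImmersion iW)) rfl rfl
  have hrange : ∀ w, w ∈ Set.range i ↔ ξ ⤳ pullback.fst f f w ∧ η ⤳ pullback.snd f f w := by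
    intro w
    rw [Scheme.Pullback.range_map, Set.mem_inter_iff, Set.mem_preimage, Set.mem_preimage,
      Scheme.IdealSheafData.range_subschemeι, Scheme.IdealSheafData.range_subschemeι,
      IntMult.ptIdeal, IntMult.ptIdeal, Scheme.IdealSheafData.coe_support_vanishingIdeal,
      Scheme.IdealSheafData.coe_support_vanishingIdeal, specializes_iff_mem_closure, specializes_iff_mem_closure]
    rfl
  obtain ⟨z, hz⟩ : ∃ z, i (genericPoint _) = z := ⟨_, rfl⟩
  have hzr : ∀ w, z ⤳ w ↔ ξ ⤳ pullback.fst f f w ∧ η ⤳ pullback.snd f f w := fun w => by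
    rw [← hrange, ← GrothLib.QCoh.closure_singleton_eq_range (i := i), hz, specializes_iff_mem_closure]
  obtain ⟨w₁, hw₁, hw₁'⟩ := Scheme.Pullback.exists_preimage_pullback (f := f) (g := f) ξ η (Subsingleton.elim _ _)
  have hs := (hzr z).1 specializes_rfl
  have hzw := (hzr w₁).2 ⟨hw₁ ▸ specializes_rfl, hw₁' ▸ specializes_rfl⟩
  have hp : pullback.fst f f z = ξ := by
    have h := hzw.map (pullback.fst f f).continuous
    rw [hw₁] at h
    exact (h.antisymm hs.1).eq
  have hq : pullback.snd f f z = η := by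
    have h := hzw.map (pullback.snd f f).continuous
    rw [hw₁'] at h
    exact (h.antisymm hs.2).eq
  have hker : i.ker = IntMult.ptIdeal z := by
    rw [GrothLib.QCoh.ker_eq_vanishingIdeal_closure (i := i), IntMult.ptIdeal]
    simp only [hz]
  refine ⟨z, hp, hq, ?_, hzr, ?_, fun x => ?_⟩
  · obtain ⟨P', j, hjc, s, hs', -, hr, hsh, -⟩ := GrothLib.ExtP17.exists_model hδ hδ hsq h₂ η
    obtain ⟨w, hw⟩ := (hr z).2 (hq ▸ specializes_rfl)
    have := hsh w fun w' he hspec => by
      have h1 : z ⤳ j w' := (hzr _).2 ⟨by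
        have : pullback.fst f f (j w') = ξ := by
          rw [← Scheme.Hom.comp_apply, he, Scheme.Hom.comp_apply, hw, hp]
        rw [this], (hr _).1 ⟨w', rfl⟩⟩
      have h2 : j w' ⤳ z := hw ▸ hspec.map j.continuous
      exact j.isEmbedding.injective ((h2.antisymm h1).eq.trans hw.symm)
    rw [Scheme.Hom.comp_apply, hw, hp] at this
    omega
  · have h1 : IntMult.stalkIdeal i.ker z =
        (maximalIdeal (X.presheaf.stalk (pullback.fst f f z))).map ((pullback.fst f f).stalkMap z).hom ⊔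
        (maximalIdeal (X.presheaf.stalk (pullback.snd f f z))).map ((pullback.snd f f).stalkMap z).hom := by
      rw [GrothLib.DiagRed13.ker_pullback_map f f iV iW, Scheme.IdealSheafData.ker_subschemeι,
        Scheme.IdealSheafData.ker_subschemeι, IntMult3.stalkIdeal_eq, GrothLib.ArSurf29.stalkIdeal_sup',
        CartierDescent.stalkIdeal_comap, CartierDescent.stalkIdeal_comap, ← IntMult3.stalkIdeal_eq,
        ← IntMult3.stalkIdeal_eq, stalkIdeal_pt hp, stalkIdeal_pt hq]
    rw [← h1, hker, stalkIdeal_pt rfl]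
    exact Module.length_eq_one_iff.2 (isSimpleModule_iff_isCoatom.2 (maximalIdeal.isMaximal _).out)
  · rw [GrothLib.DiagRed13.mult_eq_mult_diagonal f, ← hker]

include hδ h₂ in
theorem map_fst_interProd_diagonal [QuasiCompact f] {n : ℤ} (hn : δ (genericPoint X) = n)
    (h₂' : Cyc.DeltaCompat (pullback.fst f f) δ₂ δ) [QuasiCompact (pullback.fst f f)]
    (α β : AlgebraicCycle X ℤ) (hprop : IntMult.IntersectProperly δ n ⇑α ⇑β) (γ : AlgebraicCycle (pullback f f) ℤ)
    (hγ : ⇑γ = IntMult.interProd δ₂ (n + n) (Set.indicator {Limits.pullback.diagonal f (genericPoint X)} 1)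
      (IntMult.extProd f f δ δ δ₂ ⇑α ⇑β)) :
    IntMult.IntersectProperly δ₂ (n + n) (Set.indicator {Limits.pullback.diagonal f (genericPoint X)} 1)
        (IntMult.extProd f f δ δ δ₂ ⇑α ⇑β) ∧
      ⇑(AlgebraicCycle.map (pullback.fst f f) δ₂ δ γ) = IntMult.interProd δ n ⇑α ⇑β := by
  classical
  obtain ⟨sX, -, sP⟩ := GrothLib.ExtP17.setups hδ hδ (IsPullback.of_hasPullback f f) h₂
  let Δ : X ⟶ pullback f f := Limits.pullback.diagonal f
  have hfs : ∀ x, pullback.fst f f (Δ x) = x := fun x => by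
    rw [← Scheme.Hom.comp_apply, Limits.pullback.diagonal_fst]; rfl
  have hsn : ∀ x, pullback.snd f f (Δ x) = x := fun x => by
    rw [← Scheme.Hom.comp_apply, Limits.pullback.diagonal_snd]; rfl
  have hres : ∀ x, Function.Bijective ((pullback.fst f f).residueFieldMap (Δ x)).hom := by
    intro x
    haveI : IsPreimmersion (Δ ≫ pullback.fst f f) := by rw [Limits.pullback.diagonal_fst]; infer_instance
    have hc : Function.Bijective ((Δ ≫ pullback.fst f f).residueFieldMap x).hom :=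
      GrothLib.CycPush.residueFieldMap_bijective _ x
    rw [Scheme.residueFieldMap_comp, CommRingCat.hom_comp, RingHom.coe_comp] at hc
    have hΔb := GrothLib.CycPush.residueFieldMap_bijective Δ x
    exact ⟨Function.Injective.of_comp hc.1, Function.Surjective.of_comp_left hc.2 hΔb.1⟩
  have hdeg : ∀ x, (pullback.fst f f).residueDegree (Δ x) = 1 := fun x =>
    GrothLib.CycPush.residueDegree_eq_one _ (hres x).2
  have hd : ∀ x, δ₂ (Δ x) = δ x := fun x => by
    rw [GrothLib.C1.BasePush.delta_eq_of_residueDegree_ne_zero (pullback.fst f f) h₂' (by rw [hdeg]; exact one_ne_zero), hfs]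
  have hgenD : ∀ {w}, Δ (genericPoint X) ⤳ w ↔ w ∈ Set.range Δ := fun {w} => by
    rw [specializes_iff_mem_closure, GrothLib.QCoh.closure_singleton_eq_range (i := Δ)]
  have hkerD : Δ.ker = IntMult.ptIdeal (Δ (genericPoint X)) := GrothLib.QCoh.ker_eq_vanishingIdeal_closure (i := Δ)
  choose z hz1 hz2 hz3 hz4 hz5 hz6 using exists_prod f hδ h₂
  have hext : ∀ w, IntMult.extProd f f δ δ δ₂ ⇑α ⇑β w ≠ 0 → w = z (pullback.fst f f w) (pullback.snd f f w) := by
    intro w hw
    have hdw : δ₂ w = δ (pullback.fst f f w) + δ (pullback.snd f f w) := by_contra fun h => hw (if_neg h)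
    by_contra hne
    have h := sP.2.2 _ w ((hz4 _ _ w).2 ⟨specializes_rfl, specializes_rfl⟩) (Ne.symm hne)
    have h3 := hz3 (pullback.fst f f w) (pullback.snd f f w)
    have := h.1
    omega
  have hval : ∀ a b, IntMult.extProd f f δ δ δ₂ ⇑α ⇑β (z a b) = α a * β b := by
    intro a b
    show (if _ then _ else _) = _
    rw [if_pos (by rw [hz3, hz1, hz2]), hz5, hz1, hz2]
    simp
  refine ⟨fun a w ζ ha hw haζ hwζ => ?_, ?_⟩
  · obtain rfl : a = Δ (genericPoint X) := Set.mem_singleton_iff.1 (Set.mem_of_indicator_ne_zero ha)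
    obtain ⟨x, rfl⟩ := hgenD.1 haζ
    have hv := hext w hw
    rw [hv] at hw hwζ ⊢
    rw [hval] at hw
    have h4 := (hz4 _ _ _).1 hwζ
    rw [hfs, hsn] at h4
    have h5 := hprop _ _ x (left_ne_zero_of_mul hw) (right_ne_zero_of_mul hw) h4.1 h4.2
    rw [hd, hd, hz3, hn]
    omega
  funext x
  have hγ0 : ∀ w, γ w ≠ 0 → w ∈ Set.range Δ := by
    intro w hw
    rw [hγ, IntMult.interProd] at hw
    obtain ⟨p, hp⟩ := not_forall.1 fun h => hw (finsum_eq_zero_of_forall_eq_zero h)
    have h1 := Set.mem_singleton_iff.1 (Set.mem_of_indicator_ne_zero (left_ne_zero_of_mul (left_ne_zero_of_mul hp)))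
    exact hgenD.1 (h1 ▸ p.2.1)
  rw [GrothLib.CycPush.map_apply, finsum_mem_eq_of_subset_singleton (a := Δ x)]
  rotate_left
  · exact hfs x
  · intro w hw hne
    by_contra h0
    obtain ⟨x', rfl⟩ := hγ0 w (left_ne_zero_of_mul h0)
    exact hne (congrArg Δ ((hfs x').symm.trans hw))
  rw [show AlgebraicCycle.mapCoeff (pullback.fst f f) δ₂ δ (Δ x) = 1 from
    (if_pos (by rw [hd]; exact congrArg δ (hfs x).symm)).trans (hdeg x), Nat.cast_one, mul_one, hγ]
  let e : {p : X × X // p.1 ⤳ x ∧ p.2 ⤳ x ∧ δ p.1 + δ p.2 - n = δ x} →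
      {p : ↥(pullback f f) × ↥(pullback f f) // p.1 ⤳ Δ x ∧ p.2 ⤳ Δ x ∧ δ₂ p.1 + δ₂ p.2 - (n + n) = δ₂ (Δ x)} :=
    fun p => ⟨(Δ (genericPoint X), z p.1.1 p.1.2), hgenD.2 ⟨x, rfl⟩,
      (hz4 _ _ _).2 ⟨by rw [hfs]; exact p.2.1, by rw [hsn]; exact p.2.2.1⟩, by
        rw [hd, hd, hz3, hn]; have := p.2.2.2; omega⟩
  have he : Function.Injective e := fun p p' h => by
    have h' : z p.1.1 p.1.2 = z p'.1.1 p'.1.2 := congrArg (fun q => q.1.2) h
    exact Subtype.ext (Prod.ext (by rw [← hz1 p.1.1 p.1.2, h', hz1]) (by rw [← hz2 p.1.1 p.1.2, h', hz2]))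
  show (∑ᶠ p, _) = ∑ᶠ p, _
  rw [← finsum_mem_univ, finsum_mem_eq_of_support_range _ e, finsum_mem_range he]
  · refine finsum_congr fun p => ?_
    show Set.indicator _ 1 (Δ (genericPoint X)) * IntMult.extProd f f δ δ δ₂ ⇑α ⇑β (z p.1.1 p.1.2) *
      IntMult.mult (IntMult.ptIdeal (Δ (genericPoint X))) (IntMult.ptIdeal (z p.1.1 p.1.2)) (Δ x) = _
    rw [Set.indicator_of_mem (Set.mem_singleton _), Pi.one_apply, one_mul, hval, hz6, hkerD]
    exact congrArg _ (GrothLib.KoszulEuler.intMult_chi_comm _ _)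
  · intro q hq
    have h1 := Set.mem_singleton_iff.1 (Set.mem_of_indicator_ne_zero (left_ne_zero_of_mul (left_ne_zero_of_mul hq)))
    have hw := hext _ (right_ne_zero_of_mul (left_ne_zero_of_mul hq))
    have h4 := (hz4 _ _ _).1 (hw ▸ q.2.2.1)
    rw [hfs, hsn] at h4
    have h5 := q.2.2.2
    have h6 : δ₂ q.1.1 = n := by rw [h1, hd, hn]
    have h7 := congrArg δ₂ hw
    rw [hz3] at h7
    have h8 := hd x
    exact ⟨⟨(_, _), h4.1, h4.2, by show _ + _ - n = _; dsimp only; omega⟩, Subtype.ext (Prod.ext h1.symm hw.symm)⟩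

end GrothLib.ChiDev4
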