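import Groth.Agent.Lib.ChiDev4.Cycles
import Groth.Agent.Lib.ChiDev4.AssocScheme
import Groth.Agent.Lib.SemiLocalDim16.Sop
import Groth.Agent.Lib.Cube.AmpleCrit
import Groth.Agent.Lib.ExtP17.Point
import Groth.Agent.Lib.FibreFlat.Stalk
import Groth.Agent.Lib.TorBC25.BCFinal
import Groth.Agent.Lib.HTor22.TorSemilinear

/-! The product of the two pullbacks is the exterior product. -/

set_option autoImplicit false
set_option linter.style.haveILetI false
set_option backward.isDefEq.respectTransparency false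
set_option maxHeartbeats 1000000

universe u

open CategoryTheory AlgebraicGeometry IsLocalRing TensorProduct
open GrothLib.CycFlat (MaxFib)
open Limits (pullback pullback.fst pullback.snd)

namespace GrothLib.ChiDev4

theorem lenE_closedPoint {A : Type u} [CommRing A] [IsLocalRing A] (M : Type u) [AddCommGroup M] [Module A M] :
    lenE (closedPoint A) M = Module.length A M := by
  haveI : IsLocalization.AtPrime A (closedPoint A).asIdeal :=
    IsLocalization.self fun x hx => by
      by_contra h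
      exact hx ((IsLocalRing.mem_maximalIdeal _).2 h)
  rw [lenE_eq_tensor (closedPoint A) A]
  exact (TensorProduct.lid A M).length_eq

/-- Extension of a finite length module inside `χ`. -/
theorem chi_baseChange {A O : Type u} [CommRing A] [IsNoetherianRing A] [IsLocalRing A] [CommRing O] [Algebra A O]
    [Module.Flat A O] (X₀ : Type u) [AddCommGroup X₀] [Module O X₀] {a : ℕ}
    (hX : HasProjectiveDimensionLE (ModuleCat.of O X₀) a)
    (hfin : ∀ i, Module.length O (DRing.Tor O i (O ⧸ (maximalIdeal A).map (algebraMap A O)) X₀) ≠ ⊤)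
    (M : Type u) [AddCommGroup M] [Module A M] [Module.Finite A M] (hM : Module.length A M ≠ ⊤) :
    (∀ i, Module.length O (DRing.Tor O i (O ⊗[A] M) X₀) ≠ ⊤) ∧
      IntMult.chi O (O ⊗[A] M) X₀ = ((Module.length A M).toNat : ℤ) *
        IntMult.chi O (O ⧸ (maximalIdeal A).map (algebraMap A O)) X₀ := by
  classical
  have hZ : Module.support A M ⊆ ({closedPoint A} : Set (PrimeSpectrum A)) := by
    intro P hP
    have hd := GrothLib.SemiLocalDim16.supportDim_le_zero_of_isFiniteLength (Module.length_ne_top_iff.1 hM)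
    haveI : Nontrivial M := Module.nonempty_support_iff.1 ⟨P, hP⟩
    exact le_antisymm (IsLocalRing.le_maximalIdeal P.2.ne_top)
      ((Order.krullDim_nonpos_iff_forall_isMax.1 hd ⟨P, hP⟩) (b := ⟨closedPoint A, IsLocalRing.closedPoint_mem_support A M⟩)
        (IsLocalRing.le_maximalIdeal P.2.ne_top))
  have e0 : (O ⊗[A] (A ⧸ maximalIdeal A)) ≃ₗ[O] O ⧸ (maximalIdeal A).map (algebraMap A O) :=
    (Algebra.TensorProduct.quotIdealMapEquivTensorQuot O (maximalIdeal A)).toLinearEquiv.symm
  obtain ⟨t, e⟩ := devissage ({closedPoint A} : Set (PrimeSpectrum A)) {closedPoint A}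
      (fun P hP Q hQ _ => hP.trans (Finset.mem_singleton.1 hQ).symm)
      (fun N _ _ => IntMult.chi O (O ⊗[A] N) X₀)
      (fun N _ _ => ∀ i, Module.length O (DRing.Tor O i (O ⊗[A] N) X₀) ≠ ⊤)
      (fun _ => IntMult.chi O (O ⧸ (maximalIdeal A).map (algebraMap A O)) X₀)
      (fun N _ _ _ => ⟨fun i => by rw [length_tor_of_subsingleton]; exact ENat.zero_ne_top, chi_of_subsingleton _⟩)
      (fun P hP _ N _ _ e => by
        obtain rfl : P = closedPoint A := hP
        exact ⟨fun i => by rw [length_tor_congr ((LinearEquiv.baseChange A O _ _ e).trans e0)]; exact hfin i,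
          chi_congr ((LinearEquiv.baseChange A O _ _ e).trans e0)⟩)
      (fun P hP hPS N _ _ e => absurd (Finset.mem_singleton.2 hP) hPS)
      (fun N₁ N₂ N₃ _ _ _ _ _ _ g₁ g₂ hf₁ hg₂ hex t1 t3 =>
        chi_short (f := g₁.baseChange O) (g := g₂.baseChange O) hX
          (Module.Flat.lTensor_preserves_injective_linearMap (M := O) g₁ hf₁) (LinearMap.lTensor_surjective O hg₂)
          (lTensor_exact O hex hg₂) t1 t3) M hZ
  refine ⟨t, ?_⟩
  rw [e, Finset.sum_singleton, lenE_closedPoint]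

variable {X Y : Scheme.{u}}

/-- The fibre factor is flat over the other factor. -/
theorem flat_fibre_factor {K : Type u} [Field K] (f : X ⟶ Spec (CommRingCat.of K)) (g : Y ⟶ Spec (CommRingCat.of K))
    (z : ↥(pullback f g)) :
    ((Ideal.Quotient.mk ((maximalIdeal (Y.presheaf.stalk (pullback.snd f g z))).map
      ((pullback.snd f g).stalkMap z).hom)).comp ((pullback.fst f g).stalkMap z).hom).Flat := by
  let q := pullback.snd f g
  suffices h : ∀ (y : Y) (w : q.fiber y), ((Ideal.Quotient.mk ((maximalIdeal (Y.presheaf.stalk (q (q.fiberι y w)))).map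
      (q.stalkMap (q.fiberι y w)).hom)).comp ((pullback.fst f g).stalkMap (q.fiberι y w)).hom).Flat by
    obtain ⟨w, hw⟩ : ∃ w, q.fiberι (q z) w = z := ⟨q.asFiber z, q.fiberι_asFiber z⟩
    exact hw ▸ h (q z) w
  intro y w
  let z' := q.fiberι y w
  obtain ⟨hs, hk⟩ := GrothLib.FibreFlat.fiberι_stalkMap q y w
  have hsq : IsPullback (q.fiberι y ≫ pullback.fst f g) (q.fiberToSpecResidueField y) f
      (Y.fromSpecResidueField y ≫ g) :=
    (IsPullback.of_hasPullback q (Y.fromSpecResidueField y)).paste_horiz (IsPullback.of_hasPullback f g)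
  haveI : Flat (Y.fromSpecResidueField y ≫ g) := by
    haveI : Subsingleton ↥(Spec (CommRingCat.of K)) := inferInstanceAs (Subsingleton (PrimeSpectrum K))
    infer_instance
  haveI : Flat (q.fiberι y ≫ pullback.fst f g) :=
    MorphismProperty.of_isPullback (P := @Flat) hsq.flip inferInstance
  have h1 : ((q.fiberι y).stalkMap w).hom.comp ((pullback.fst f g).stalkMap z').hom |>.Flat := by
    have := Flat.stalkMap (q.fiberι y ≫ pullback.fst f g) w
    rw [Scheme.Hom.stalkMap_comp] at this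
    exact this
  let e := (Ideal.quotEquivOfEq hk.symm).trans (RingHom.quotientKerEquivOfSurjective hs)
  have h2 : (Ideal.Quotient.mk ((maximalIdeal (Y.presheaf.stalk (q z'))).map (q.stalkMap z').hom)).comp
      ((pullback.fst f g).stalkMap z').hom =
      e.symm.toRingHom.comp (((q.fiberι y).stalkMap w).hom.comp ((pullback.fst f g).stalkMap z').hom) := by
    refine RingHom.ext fun a => (e.eq_symm_apply).2 ?_
    rfl
  rw [h2]
  exact RingHom.Flat.comp h1 (RingHom.Flat.of_bijective (f := e.symm.toRingHom) e.symm.bijective)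

/-- Flatness of a factor makes the two fibre factors Tor independent. -/
theorem chi_factors {A O : Type u} [CommRing A] [IsLocalRing A] [CommRing O] [Algebra A O] [Module.Flat A O]
    (J : Ideal O) (h : ((Ideal.Quotient.mk J).comp (algebraMap A O)).Flat) :
    IntMult.chi O (O ⧸ (maximalIdeal A).map (algebraMap A O)) (O ⧸ J) =
        ((Module.length O (O ⧸ ((maximalIdeal A).map (algebraMap A O) ⊔ J))).toNat : ℤ) ∧
      ∀ i, 0 < i → Module.length O (DRing.Tor O i (O ⧸ (maximalIdeal A).map (algebraMap A O)) (O ⧸ J)) = 0 := by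
  let I := (maximalIdeal A).map (algebraMap A O)
  haveI : Module.Flat A (O ⧸ J) := by
    rw [← RingHom.flat_algebraMap_iff]
    exact h
  have hz : ∀ i, 0 < i → Module.length O (DRing.Tor O i (O ⧸ I) (O ⧸ J)) = 0 := by
    intro i hi
    haveI := GrothLib.TorBC25.subsingleton_tor_of_flat (R := A) (M := O ⧸ J) (N := A ⧸ maximalIdeal A) i hi
    obtain ⟨e⟩ := GrothLib.HTor22.exists_semilinear_tor_of_flat (A := A) (A' := O) (O ⧸ J) (A ⧸ maximalIdeal A) i
    haveI : Subsingleton (DRing.Tor O i (O ⧸ J) (O ⊗[A] (A ⧸ maximalIdeal A))) :=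
      e.symm.toLinearEquiv.toEquiv.subsingleton
    rw [GrothLib.KoszulEuler.length_tor_comm]
    refine Eq.trans ?_ (Module.length_eq_zero (R := O) (M := DRing.Tor O i (O ⧸ J) (O ⊗[A] (A ⧸ maximalIdeal A))))
    exact (((CategoryTheory.Tor (ModuleCat.{u} O) i).obj (ModuleCat.of O (O ⧸ J))).mapIso
      (Algebra.TensorProduct.quotIdealMapEquivTensorQuot O (maximalIdeal A)).toLinearEquiv.toModuleIso).toLinearEquiv.length_eq
  refine ⟨?_, hz⟩
  rw [IntMult.chi, finsum_eq_single _ 0 fun i hi => by rw [hz i (Nat.pos_of_ne_zero hi)]; simp]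
  rw [(GrothLib.KoszulEuler.torZeroEquiv (O ⧸ I) (O ⧸ J)).length_eq, (GrothLib.Diag.quotientTensorEquiv I J).length_eq]
  simp [I]

theorem extProd_sheafFun {K : Type u} [Field K] [IsAlgClosed K] (f : X ⟶ Spec (CommRingCat.of K))
    (g : Y ⟶ Spec (CommRingCat.of K)) [Smooth f] [Smooth g] [IsIntegral X] [IsIntegral Y]
    {δX : X → ℤ} {δY : Y → ℤ} {δ : ↥(pullback f g) → ℤ} (hX : Cyc.DeltaCompat f δX (fun _ => 0))
    (hY : Cyc.DeltaCompat g δY (fun _ => 0)) (hXY : Cyc.DeltaCompat (pullback.fst f g ≫ f) δ (fun _ => 0))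
    (n m : ℕ) (hn : δX (genericPoint X) = n) (hm : δY (genericPoint Y) = m)
    (F : X.Modules) (G : Y.Modules) {r s : ℤ} (hF : Cyc.CohLe δX r F) (hG : Cyc.CohLe δY s G) :
    IntMult.interProd δ (n + m) (Cyc.pullFun (pullback.fst f g) δ δX m (Cyc.sheafFun δX r F))
        (Cyc.pullFun (pullback.snd f g) δ δY n (Cyc.sheafFun δY s G)) =
      IntMult.extProd f g δX δY δ (Cyc.sheafFun δX r F) (Cyc.sheafFun δY s G) ∧
    (∀ x : X, MaxFib f x → δX x = n) ∧
    (∀ z, MaxFib (pullback.fst f g) z → δ z = δX (pullback.fst f g z) + m) ∧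
    (∀ z, MaxFib (pullback.snd f g) z → δ z = δY (pullback.snd f g z) + n) := by
  classical
  set p := pullback.fst f g with hp
  set q := pullback.snd f g with hq
  have hsq : IsPullback p q f g := IsPullback.of_hasPullback f g
  obtain ⟨sX, sY, sP⟩ := GrothLib.ExtP17.setups hX hY hsq hXY
  haveI := sX.1
  haveI := sY.1
  haveI := sP.1
  haveI : Flat f := by
    haveI : Subsingleton ↥(Spec (CommRingCat.of K)) := inferInstanceAs (Subsingleton (PrimeSpectrum K))
    infer_instance
  haveI : Flat g := by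
    haveI : Subsingleton ↥(Spec (CommRingCat.of K)) := inferInstanceAs (Subsingleton (PrimeSpectrum K))
    infer_instance
  haveI := GrothLib.Cube.geometricallyIntegral_of_isIntegral f
  haveI : IsIntegral (pullback f g) := GeometricallyIntegral.isIntegral_of_isLocallyNoetherian q
  have hrelX : ∀ x : X, MaxFib f x → δX x = n := by
    intro x hx
    rw [← hn]
    exact congrArg δX (hx (genericPoint X) (Subsingleton.elim (α := PrimeSpectrum K) _ _) (genericPoint_specializes x)).symm
  have hrelY : ∀ y : Y, MaxFib g y → δY y = m := by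
    intro y hy
    rw [← hm]
    exact congrArg δY (hy (genericPoint Y) (Subsingleton.elim (α := PrimeSpectrum K) _ _) (genericPoint_specializes y)).symm
  have relDim : ∀ {Z : Scheme.{u}} (h : Z ⟶ Spec (CommRingCat.of K)) [LocallyOfFiniteType h] {δZ : Z → ℤ},
      Cyc.DeltaCompat h δZ (fun _ => 0) → ∀ (k : ℕ), (∀ x, MaxFib h x → δZ x = k) → Cyc.HasRelDim h k :=
    fun h _ δZ hZ k hk => (GrothLib.CycFlat.hasRelDim_iff h k).2 fun x hx => by
      obtain ⟨l, hl, hld⟩ := hZ x
      have h1 := hk x hx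
      have : l = k := by
        have : δZ x = (0 : ℤ) + l := hld
        omega
      exact this ▸ hl
  have hXY' : Cyc.DeltaCompat (q ≫ g) δ (fun _ => 0) := by
    rw [← hsq.w]
    exact hXY
  have hcp : ∀ z, MaxFib p z → δ z = δX (p z) + m := GrothLib.CycFlat.shift_of_hasRelDim p
    (GrothLib.CycFlat.hasRelDim_of_isPullback hsq.flip (relDim g hY m hrelY))
    (GrothLib.C1.deltaCompat_of_comp p f (p ≫ f) rfl hX hXY)
  have hcq : ∀ z, MaxFib q z → δ z = δY (q z) + n := GrothLib.CycFlat.shift_of_hasRelDim q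
    (GrothLib.CycFlat.hasRelDim_of_isPullback hsq (relDim f hX n hrelX))
    (GrothLib.C1.deltaCompat_of_comp q g (q ≫ g) rfl hY hXY')
  refine ⟨?_, hrelX, hcp, hcq⟩
  have hgen : δ (genericPoint ↥(pullback f g)) = (n : ℤ) + m := by
    have e := hcp (genericPoint ↥(pullback f g)) (fun z' _ hs => ((genericPoint_specializes z').antisymm hs).eq.symm)
    have hp' : MaxFib p (genericPoint ↥(pullback f g)) := fun z' _ hs => ((genericPoint_specializes z').antisymm hs).eq.symm
    obtain ⟨x₁, hx₁⟩ : ∃ x₁, x₁ = p (genericPoint ↥(pullback f g)) := ⟨_, rfl⟩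
    have hg0 : x₁ = genericPoint X := by
      obtain ⟨z₁, hz₁, hz₁'⟩ := Flat.generalizingMap p (show genericPoint X ⤳ p (genericPoint ↥(pullback f g)) from
        genericPoint_specializes _)
      have : z₁ = genericPoint ↥(pullback f g) := ((genericPoint_specializes z₁).antisymm hz₁).eq.symm
      rw [hx₁, ← this]
      exact hz₁'
    rw [e, ← hx₁, hg0, hn]
  obtain ⟨hbF, eF⟩ := GrothLib.CycFlat.pullFun_sheafFun p sP.2.2 hcp r F hF.1 hF.2
  obtain ⟨hbG, eG⟩ := GrothLib.CycFlat.pullFun_sheafFun q sP.2.2 hcq s G hG.1 hG.2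
  have hsupp : ∀ {Z : Scheme.{u}} (h : pullback f g ⟶ Z) (H : Z.Modules), Coh.IsCoh H → ∀ z,
      Nontrivial (((Scheme.Modules.pullback h).obj H).presheaf.stalk z) → Nontrivial (H.presheaf.stalk (h z)) := by
    intro Z h H hH z hz
    have h1 : z ∈ CohB1.support ((Scheme.Modules.pullback h).obj H) := not_subsingleton_iff_nontrivial.2 hz
    rw [GrothLib.QCoh.support_pullback h H hH] at h1
    exact not_subsingleton_iff_nontrivial.1 h1
  have hmain := (interProd_sheafFun (p ≫ f) sP ((n : ℤ) + m) hgen ((Scheme.Modules.pullback p).obj F)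
    ((Scheme.Modules.pullback q).obj G) (GrothLib.ModDesc.isCoh_pullback p F hF.1)
    (GrothLib.ModDesc.isCoh_pullback q G hG.1) (r + m) (s + n) hbF hbG
    (fun z h1 h2 => by
      have := hF.2 _ (hsupp p F hF.1 z h1)
      have := hG.2 _ (hsupp q G hG.1 z h2)
      have := GrothLib.ExtP17.delta_le hX hY hsq hXY z
      omega)).2
  funext z
  rw [eF, eG, hmain z]
  have hle := GrothLib.ExtP17.delta_le hX hY hsq hXY z
  by_cases hz : δ z = r + s
  swap
  · rw [if_neg (by omega)]
    simp only [IntMult.extProd, Cyc.sheafFun]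
    split_ifs <;> first | omega | simp
  rw [if_pos (by omega)]
  simp only [IntMult.extProd, Cyc.sheafFun]
  by_cases hk : δX (p z) = r ∧ δY (q z) = s
  swap
  · have h0 : Subsingleton (((Scheme.Modules.pullback p).obj F).presheaf.stalk z) ∨
        Subsingleton (((Scheme.Modules.pullback q).obj G).presheaf.stalk z) := by
      by_contra hno
      simp only [not_or, not_subsingleton_iff_nontrivial] at hno
      have := hF.2 _ (hsupp p F hF.1 z hno.1)
      have := hG.2 _ (hsupp q G hG.1 z hno.2)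
      exact hk ⟨by omega, by omega⟩
    have hl : IntMult.chi ((pullback f g).presheaf.stalk z) (((Scheme.Modules.pullback p).obj F).presheaf.stalk z)
        (((Scheme.Modules.pullback q).obj G).presheaf.stalk z) = 0 := by
      rcases h0 with h | h
      · exact chi_of_subsingleton _
      · rw [GrothLib.KoszulEuler.intMult_chi_comm]; exact chi_of_subsingleton _
    rw [hl]
    split_ifs <;> simp_all
  obtain ⟨hkx, hky⟩ := hk
  rw [if_pos (show δ z = δX (p z) + δY (q z) by omega), if_pos hkx, if_pos hky]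
  let A := X.presheaf.stalk (p z)
  let B := Y.presheaf.stalk (q z)
  let O := (pullback f g).presheaf.stalk z
  haveI : IsRegularLocalRing O := GrothLib.WeilExt.isRegularLocalRing_stalk_of_smooth (p ≫ f)
    (GrothLib.WeilExt.isRegularLocalRing_stalk_spec K) z
  haveI := GrothLib.QuasiFlat.finite_stalk F hF.1 (p z)
  haveI := GrothLib.QuasiFlat.finite_stalk G hG.1 (q z)
  have ha := dim_stalk sP.2.2 z
  have hlenF : Module.length A (F.presheaf.stalk (p z)) ≠ ⊤ := by
    refine (GrothLib.CycBasic.length_lt_top_of_maximal hF.1 fun y hy hyx => by_contra fun hne => ?_).ne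
    have h1 := (sX.2.2 y (p z) hyx hne).1
    have h2 := hF.2 y (GrothLib.CycBasic.nontrivial_iff_mem_support.2 hy)
    omega
  have hlenG : Module.length B (G.presheaf.stalk (q z)) ≠ ⊤ := by
    refine (GrothLib.CycBasic.length_lt_top_of_maximal hG.1 fun y hy hyx => by_contra fun hne => ?_).ne
    have h1 := (sY.2.2 y (q z) hyx hne).1
    have h2 := hG.2 y (GrothLib.CycBasic.nontrivial_iff_mem_support.2 hy)
    omega
  let φ := (p.stalkMap z).hom
  let ψ := (q.stalkMap z).hom
  let I := (maximalIdeal A).map φ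
  let J := (maximalIdeal B).map ψ
  have hfl : Module.length O (O ⧸ (I ⊔ J)) ≠ ⊤ := by
    refine (GrothLib.FiniteLengthSupp.length_lt_top ?_).ne
    rw [Module.supportDim_quotient_eq_ringKrullDim, ringKrullDim_quotient, Order.krullDim_nonpos_iff_forall_isMax]
    rintro ⟨L, hL⟩ ⟨L', hL'⟩ hLL
    rw [PrimeSpectrum.mem_zeroLocus, SetLike.coe_subset_coe] at hL
    have hsp : (pullback f g).fromSpecStalk z L ⤳ z := GrothLib.CycBasic.specializes_fromSpecStalk L
    have key : ∀ {W : Scheme.{u}} (h : pullback f g ⟶ W),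
        (maximalIdeal (W.presheaf.stalk (h z))).map (h.stalkMap z).hom ≤ L.asIdeal →
          h ((pullback f g).fromSpecStalk z L) = h z := by
      intro W h hle'
      rw [← Scheme.Hom.comp_apply, ← Scheme.SpecMap_stalkMap_fromSpecStalk]
      have : Spec.map (h.stalkMap z) L = closedPoint (W.presheaf.stalk (h z)) :=
        PrimeSpectrum.ext ((maximalIdeal.isMaximal _).eq_of_le
          (Ideal.IsPrime.comap _).ne_top (Ideal.map_le_iff_le_comap.1 hle')).symm
      rw [Scheme.Hom.comp_apply, this, Scheme.fromSpecStalk_closedPoint]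
    have e1 := key p (le_sup_left.trans hL)
    have e2 := key q (le_sup_right.trans hL)
    have h4 : (pullback f g).fromSpecStalk z L = z := by
      by_contra hne
      have := (sP.2.2 _ z hsp hne).1
      have := GrothLib.ExtP17.delta_le hX hY hsq hXY ((pullback f g).fromSpecStalk z L)
      rw [e1, e2] at this
      omega
    have hPM : L = closedPoint O :=
      ((pullback f g).fromSpecStalk z).isEmbedding.injective (h4.trans Scheme.fromSpecStalk_closedPoint.symm)
    show L' ≤ L
    rw [hPM]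
    exact IsLocalRing.le_maximalIdeal L'.isPrime.ne_top
  have base : IntMult.chi O (O ⧸ I) (O ⧸ J) = ((Module.length O (O ⧸ (I ⊔ J))).toNat : ℤ) ∧
      ∀ i, Module.length O (DRing.Tor O i (O ⧸ I) (O ⧸ J)) ≠ ⊤ := by
    letI := φ.toAlgebra
    haveI : Module.Flat A O := Flat.stalkMap p z
    obtain ⟨h1, h2⟩ := chi_factors (A := A) (O := O) J (flat_fibre_factor f g z)
    refine ⟨h1, fun i => ?_⟩
    rcases i with _ | i
    · rw [(GrothLib.KoszulEuler.torZeroEquiv (O ⧸ I) (O ⧸ J)).length_eq,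
        (GrothLib.Diag.quotientTensorEquiv I J).length_eq]
      exact hfl
    · exact ne_of_eq_of_ne (h2 (i + 1) i.succ_pos) ENat.zero_ne_top
  have hpd : ∀ (M : Type u) [AddCommGroup M] [Module O M] [Module.Finite O M],
      HasProjectiveDimensionLE (ModuleCat.of O M) (δ (genericPoint ↥(pullback f g)) - δ z).toNat :=
    fun M _ _ _ => GrothLib.Serre.pdLE_of_isRegularLocalRing O _ ha M
  have stepG : (∀ i, Module.length O (DRing.Tor O i (((Scheme.Modules.pullback q).obj G).presheaf.stalk z) (O ⧸ I)) ≠ ⊤) ∧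
      IntMult.chi O (((Scheme.Modules.pullback q).obj G).presheaf.stalk z) (O ⧸ I) =
        ((Module.length B (G.presheaf.stalk (q z))).toNat : ℤ) * IntMult.chi O (O ⧸ J) (O ⧸ I) := by
    letI := ψ.toAlgebra
    haveI : Module.Flat B O := Flat.stalkMap q z
    obtain ⟨t, e⟩ := chi_baseChange (A := B) (O := O) (O ⧸ I) (hpd _)
      (fun i => by rw [GrothLib.KoszulEuler.length_tor_comm]; exact base.2 i) (G.presheaf.stalk (q z)) hlenG
    obtain ⟨x⟩ := GrothLib.HTor22.nonempty_extend_iso (A := B) (A' := O) (G.presheaf.stalk (q z))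
    let eS : ((Scheme.Modules.pullback q).obj G).presheaf.stalk z ≃ₗ[O] O ⊗[B] G.presheaf.stalk (q z) :=
      ((GrothLib.QCoh.stalkPullbackIso q z).app G ≪≫ x).toLinearEquiv
    exact ⟨fun i => by rw [length_tor_congr eS]; exact t i, (chi_congr eS).trans e⟩
  haveI : Module.Finite O (((Scheme.Modules.pullback q).obj G).presheaf.stalk z) :=
    GrothLib.QuasiFlat.finite_stalk _ (GrothLib.ModDesc.isCoh_pullback q G hG.1) z
  have stepF : IntMult.chi O (((Scheme.Modules.pullback p).obj F).presheaf.stalk z)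
      (((Scheme.Modules.pullback q).obj G).presheaf.stalk z) =
      ((Module.length A (F.presheaf.stalk (p z))).toNat : ℤ) *
        IntMult.chi O (O ⧸ I) (((Scheme.Modules.pullback q).obj G).presheaf.stalk z) := by
    letI := φ.toAlgebra
    haveI : Module.Flat A O := Flat.stalkMap p z
    obtain ⟨t, e⟩ := chi_baseChange (A := A) (O := O) (((Scheme.Modules.pullback q).obj G).presheaf.stalk z) (hpd _)
      (fun i => by rw [GrothLib.KoszulEuler.length_tor_comm]; exact stepG.1 i) (F.presheaf.stalk (p z)) hlenF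
    obtain ⟨x⟩ := GrothLib.HTor22.nonempty_extend_iso (A := A) (A' := O) (F.presheaf.stalk (p z))
    let eS : ((Scheme.Modules.pullback p).obj F).presheaf.stalk z ≃ₗ[O] O ⊗[A] F.presheaf.stalk (p z) :=
      ((GrothLib.QCoh.stalkPullbackIso p z).app F ≪≫ x).toLinearEquiv
    exact (chi_congr eS).trans e
  rw [stepF, GrothLib.KoszulEuler.intMult_chi_comm (O ⧸ I), stepG.2, GrothLib.KoszulEuler.intMult_chi_comm (O ⧸ J),
    base.1]
  show _ = _ * _ * ((Module.length O (O ⧸ (I ⊔ J))).toNat : ℤ)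
  ring

open GrothLib.PBDeg.K0Cyc in
theorem interProd_pullFun_fst_snd {K : Type u} [Field K] [IsAlgClosed K] (f : X ⟶ Spec (CommRingCat.of K))
    (g : Y ⟶ Spec (CommRingCat.of K)) [Smooth f] [Smooth g] [IsIntegral X] [IsIntegral Y]
    {δX : X → ℤ} {δY : Y → ℤ} {δ : ↥(pullback f g) → ℤ} (hX : Cyc.DeltaCompat f δX (fun _ => 0))
    (hY : Cyc.DeltaCompat g δY (fun _ => 0)) (hXY : Cyc.DeltaCompat (pullback.fst f g ≫ f) δ (fun _ => 0))
    (n m : ℕ) (hn : δX (genericPoint X) = n) (hm : δY (genericPoint Y) = m) (r s : ℤ)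
    (α : AlgebraicCycle X ℤ) (β : AlgebraicCycle Y ℤ) (hα : α ∈ Cyc.Zk X δX r) (hβ : β ∈ Cyc.Zk Y δY s) :
    IntMult.IntersectProperly δ (n + m) (Cyc.pullFun (pullback.fst f g) δ δX m ⇑α)
        (Cyc.pullFun (pullback.snd f g) δ δY n ⇑β) ∧
      IntMult.interProd δ (n + m) (Cyc.pullFun (pullback.fst f g) δ δX m ⇑α)
        (Cyc.pullFun (pullback.snd f g) δ δY n ⇑β) = IntMult.extProd f g δX δY δ ⇑α ⇑β := by
  obtain ⟨sX, sY, sP⟩ := GrothLib.ExtP17.setups hX hY (IsPullback.of_hasPullback f g) hXY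
  haveI := sX.1
  haveI := sY.1
  haveI := sP.1
  have ka : ∀ x, (⇑α : X → ℤ) x ≠ 0 → δX x = r := fun x hx => by_contra fun h => hx (hα x h)
  have kb : ∀ x, (⇑β : Y → ℤ) x ≠ 0 → δY x = s := fun x hx => by_contra fun h => hx (hβ x h)
  refine ⟨fun ξ η ζ hξ hη hξζ hηζ => ?_, ?_⟩
  · rw [CycFlat.pullFun_apply] at hξ hη
    have e1 : δ ξ = δX (pullback.fst f g ξ) + m := by_contra fun h => hξ (if_neg h)
    have e2 : δ η = δY (pullback.snd f g η) + n := by_contra fun h => hη (if_neg h)
    have h3 := GrothLib.ExtP17.delta_le hX hY (IsPullback.of_hasPullback f g) hXY ζ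
    have h4 := CycBasic.delta_le sX.2.2 (hξζ.map (pullback.fst f g).continuous)
    have h5 := CycBasic.delta_le sY.2.2 (hηζ.map (pullback.snd f g).continuous)
    omega
  have la := C1.LF.of_cycle α
  have lb := C1.LF.of_cycle β
  have ka' : ∀ x, (-⇑α : X → ℤ) x ≠ 0 → δX x = r := fun x hx => ka x (fun h => hx (by simp [h]))
  have kb' : ∀ x, (-⇑β : Y → ℤ) x ≠ 0 → δY x = s := fun x hx => kb x (fun h => hx (by simp [h]))
  have cF₁ : Cyc.CohLe δX r (Cyc.cycleSheafPos (⇑α)) := cohLe_pos sX.2.2 la fun x hx => (ka x hx).le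
  have cF₂ : Cyc.CohLe δX r (Cyc.cycleSheafNeg (⇑α)) := cohLe_pos sX.2.2 (lf_neg la) fun x hx => (ka' x hx).le
  have cG₁ : Cyc.CohLe δY s (Cyc.cycleSheafPos (⇑β)) := cohLe_pos sY.2.2 lb fun x hx => (kb x hx).le
  have cG₂ : Cyc.CohLe δY s (Cyc.cycleSheafNeg (⇑β)) := cohLe_pos sY.2.2 (lf_neg lb) fun x hx => (kb' x hx).le
  have eA := sheafFun_pos_sub_neg sX.2.2 la ka
  have eB := sheafFun_pos_sub_neg sY.2.2 lb kb
  obtain ⟨e11, -, hcp, hcq⟩ := extProd_sheafFun f g hX hY hXY n m hn hm _ _ cF₁ cG₁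
  have LP : ∀ {F : X.Modules}, Cyc.CohLe δX r F →
      C1.LF (Cyc.pullFun (pullback.fst f g) δ δX m (Cyc.sheafFun δX r F)) := by
    intro F hF
    obtain ⟨hb, hp⟩ := CycFlat.pullFun_sheafFun (pullback.fst f g) sP.2.2 hcp r F hF.1 hF.2
    rw [hp]
    exact lf_sheafFun sP.2.2 ⟨GrothLib.ModDesc.isCoh_pullback _ F hF.1, hb⟩
  have LQ : ∀ {G : Y.Modules}, Cyc.CohLe δY s G →
      C1.LF (Cyc.pullFun (pullback.snd f g) δ δY n (Cyc.sheafFun δY s G)) := by
    intro F hF
    obtain ⟨hb, hp⟩ := CycFlat.pullFun_sheafFun (pullback.snd f g) sP.2.2 hcq s F hF.1 hF.2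
    rw [hp]
    exact lf_sheafFun sP.2.2 ⟨GrothLib.ModDesc.isCoh_pullback _ F hF.1, hb⟩
  have hsub : C1.LF (Cyc.pullFun (pullback.snd f g) δ δY n (Cyc.sheafFun δY s (Cyc.cycleSheafPos (⇑β))) -
      Cyc.pullFun (pullback.snd f g) δ δY n (Cyc.sheafFun δY s (Cyc.cycleSheafNeg (⇑β)))) := by
    intro x
    obtain ⟨U, hU, hUf⟩ := LQ cG₁ x
    obtain ⟨V, hV, hVf⟩ := LQ cG₂ x
    refine ⟨U ⊓ V, ⟨hU, hV⟩, (hUf.union hVf).subset fun y hy => ?_⟩
    obtain ⟨hyUV, hy⟩ := hy
    by_cases h1 : Cyc.pullFun (pullback.snd f g) δ δY n (Cyc.sheafFun δY s (Cyc.cycleSheafPos (⇑β))) y = 0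
    · exact Or.inr ⟨hyUV.2, fun h2 => hy (by rw [Pi.sub_apply, h1, h2, sub_zero])⟩
    · exact Or.inl ⟨hyUV.1, h1⟩
  rw [← eA, ← eB, pullFun_sub, pullFun_sub, interProd_sub_left (LP cF₁) (LP cF₂) hsub,
    interProd_sub_right (LP cF₁) (LQ cG₁) (LQ cG₂), interProd_sub_right (LP cF₂) (LQ cG₁) (LQ cG₂), e11,
    (extProd_sheafFun f g hX hY hXY n m hn hm _ _ cF₁ cG₂).1,
    (extProd_sheafFun f g hX hY hXY n m hn hm _ _ cF₂ cG₁).1,
    (extProd_sheafFun f g hX hY hXY n m hn hm _ _ cF₂ cG₂).1]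
  funext z
  simp only [Pi.sub_apply, IntMult.extProd]
  split_ifs <;> ring

end GrothLib.ChiDev4
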