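import Groth.Agent.Lib.Diag.Core

/-! Finiteness and vanishing of the Tor Euler characteristic below the expected dimension. -/

set_option autoImplicit false
set_option linter.style.haveILetI false
set_option maxHeartbeats 1000000
set_option linter.unusedSectionVars false

universe u

open TensorProduct RingTheory.Sequence

namespace GrothLib.Diag

variable (K : Type u) [Field K] {R : Type u} [CommRing R] [Algebra K R] [Algebra.FiniteType K R] [Algebra.Smooth K R]
  [IsDomain R] (P : Ideal R) [P.IsPrime]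

theorem nat_of_add {z : WithBot ℕ∞} {e t : ℕ} (h : z + (e : WithBot ℕ∞) = t) : ∃ m : ℕ, z = m ∧ m + e = t := by
  induction z using WithBot.recBotCoe with
  | bot => rw [WithBot.bot_add] at h; exact absurd h.symm WithBot.coe_ne_bot
  | coe z =>
    induction z using ENat.recTopCoe with
    | top =>
      rw [← WithBot.coe_natCast, ← WithBot.coe_add, top_add] at h
      exact absurd (WithBot.coe_inj.1 h) (ENat.natCast_ne_top t).symm
    | coe m => exact ⟨m, rfl, by exact_mod_cast h⟩

/-- Tor modules have finite length; `χ` vanishes when the dimensions are too small. -/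
theorem finite_and_vanish_affine [IsAlgClosed K] (p q : Ideal R) [p.IsPrime] [q.IsPrime] (hp : p ≤ P) (hq : q ≤ P)
    (O : Type u) [CommRing O] [Algebra R O] [IsLocalization.AtPrime O P]
    (hfin : Module.length O (O ⧸ (p.map (algebraMap R O) ⊔ q.map (algebraMap R O))) ≠ ⊤) :
    (∀ i : ℕ, Module.length O (DRing.Tor O i (O ⧸ q.map (algebraMap R O)) (O ⧸ p.map (algebraMap R O))) ≠ ⊤) ∧
    (ringKrullDim (O ⧸ p.map (algebraMap R O)) + ringKrullDim (O ⧸ q.map (algebraMap R O)) < ringKrullDim O →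
      IntMult.chi O (O ⧸ q.map (algebraMap R O)) (O ⧸ p.map (algebraMap R O)) = 0) := by
  haveI := regular_BB K P
  obtain ⟨D₀, hil, hir, hμ, hreg⟩ := exists_setting K P
  let ea := IsLocalization.algEquiv P.primeCompl O (Localization.AtPrime P)
  let e : O ≃+* Localization.AtPrime P := ea.toRingEquiv
  let D := D₀.transport e
  let pO := p.map (algebraMap R O)
  let qO := q.map (algebraMap R O)
  have hmap : ∀ a : Ideal R, (a.map (algebraMap R O)).map e.toRingHom = a.map (algebraMap R (Localization.AtPrime P)) := by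
    intro a
    rw [Ideal.map_map]
    congr 1
    exact RingHom.ext fun r => ea.commutes r
  have hflat := quotFlat_comp e (hmap p) (by rw [hil, hir]; exact flat_quot_br K P p : QuotFlat D₀.il D₀.ir _)
  refine ⟨fun i => ?_, fun hlt => ?_⟩
  · rw [D.length_tor_eq pO qO hflat i]
    haveI : Module.Finite (BB K P) (D.T pO qO) :=
      inferInstanceAs (Module.Finite (BB K P) (BB K P ⧸ (pO.map D.il ⊔ qO.map D.ir)))
    exact ((D.fl_T pO qO hfin).length_lt_top _).ne
  rw [D.chi_eq pO qO hflat]
  obtain ⟨-, -, hz⟩ := D.chi_props hreg pO qO hfin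
  refine hz.2 ?_
  rw [Module.supportDim_quotient_eq_ringKrullDim]
  have hJ : pO.map D.il ⊔ qO.map D.ir = (J0 K p q).map (algebraMap (R ⊗[K] R) (BB K P)) := by
    show pO.map (D₀.il.comp e.toRingHom) ⊔ qO.map (D₀.ir.comp e.toRingHom) = _
    rw [← Ideal.map_map, ← Ideal.map_map, hmap, hmap, hil, hir, map_bl, map_br, J0, Ideal.map_sup]
  rw [dim_quot_congr hJ]
  obtain ⟨hd, -⟩ := dim_product K P p q hp hq
  obtain ⟨hd0, -⟩ := dim_product K P (⊥ : Ideal R) (⊥ : Ideal R) bot_le bot_le
  have hB : ringKrullDim (BB K P ⧸ (J0 K (⊥ : Ideal R) (⊥ : Ideal R)).map (algebraMap (R ⊗[K] R) (BB K P))) =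
      ringKrullDim (BB K P) :=
    (dim_quot_congr (by simp [J0])).trans dim_quot_bot
  rw [hB, dim_quot_bot] at hd0
  have hlen := ringKrullDim_add_length_eq_ringKrullDim_of_isRegular D.g hreg
  have hO : ringKrullDim (BB K P ⧸ Ideal.ofList D.g) = ringKrullDim O := by
    rw [ringKrullDim_eq_of_ringEquiv ((Ideal.quotEquivOfEq D.ker.symm).trans
      (RingHom.quotientKerEquivOfSurjective (f := D.μ) fun a => ⟨_, D.μl a⟩))]
  have hOq : ∀ a : Ideal R, a.IsPrime → a ≤ P →
      ringKrullDim (O ⧸ a.map (algebraMap R O)) + ringKrullDim (R ⧸ P) = ringKrullDim (R ⧸ a) := by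
    intro a ha haP
    haveI := ha
    haveI : IsDomain (R ⧸ a) := Ideal.Quotient.isDomain a
    haveI : Algebra.FiniteType K (R ⧸ a) :=
      Algebra.FiniteType.of_surjective (Ideal.Quotient.mkₐ K a) (Ideal.Quotient.mkₐ_surjective K a)
    let P' := P.map (Ideal.Quotient.mk a)
    haveI hP' : P'.IsPrime := Ideal.map_isPrime_of_surjective Ideal.Quotient.mk_surjective (by rwa [Ideal.mk_ker])
    let S := Localization.AtPrime P'
    have h1 : ringKrullDim (O ⧸ a.map (algebraMap R O)) = ringKrullDim S := by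
      haveI : IsLocalization (Algebra.algebraMapSubmonoid (R ⧸ a) P.primeCompl) (O ⧸ a.map (algebraMap R O)) :=
        inferInstance
      have hM : Algebra.algebraMapSubmonoid (R ⧸ a) P.primeCompl = P'.primeCompl := by
        ext x
        constructor
        · rintro ⟨r, hr, rfl⟩ hx
          refine hr ?_
          have hx' : Ideal.Quotient.mk a r ∈ P.map (Ideal.Quotient.mk a) := hx
          rw [← Ideal.mem_comap, Ideal.comap_map_of_surjective _ Ideal.Quotient.mk_surjective,
            ← RingHom.ker_eq_comap_bot, Ideal.mk_ker, sup_eq_left.2 haP] at hx'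
          exact hx'
        · intro hx
          obtain ⟨r, rfl⟩ := Ideal.Quotient.mk_surjective x
          exact ⟨r, fun hr => hx (Ideal.mem_map_of_mem _ hr), rfl⟩
      haveI : IsLocalization P'.primeCompl (O ⧸ a.map (algebraMap R O)) := hM ▸ this
      exact ringKrullDim_eq_of_ringEquiv
        (IsLocalization.algEquiv P'.primeCompl (O ⧸ a.map (algebraMap R O)) S).toRingEquiv
    rw [h1, IsLocalization.AtPrime.ringKrullDim_eq_height P' S,
      ← ringKrullDim_eq_of_ringEquiv (DoubleQuot.quotQuotEquivQuotOfLE haP)]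
    exact GrothLib.AffDom.height_add_ringKrullDim_quotient (k := K) (R ⧸ a) P'
  have hOP : ringKrullDim O + ringKrullDim (R ⧸ P) = ringKrullDim R := by
    rw [IsLocalization.AtPrime.ringKrullDim_eq_height P O]
    exact GrothLib.AffDom.height_add_ringKrullDim_quotient (k := K) R P
  obtain ⟨n, hn⟩ := exists_nat_dim K R
  haveI : Nontrivial (R ⧸ P) := Ideal.Quotient.nontrivial_iff.2 Ideal.IsPrime.ne_top'
  haveI : Nontrivial (R ⧸ p) := Ideal.Quotient.nontrivial_iff.2 Ideal.IsPrime.ne_top'
  haveI : Nontrivial (R ⧸ q) := Ideal.Quotient.nontrivial_iff.2 Ideal.IsPrime.ne_top'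
  haveI : Algebra.FiniteType K (R ⧸ P) := Algebra.FiniteType.of_surjective (Ideal.Quotient.mkₐ K P) (Ideal.Quotient.mkₐ_surjective K P)
  haveI : Algebra.FiniteType K (R ⧸ p) := Algebra.FiniteType.of_surjective (Ideal.Quotient.mkₐ K p) (Ideal.Quotient.mkₐ_surjective K p)
  haveI : Algebra.FiniteType K (R ⧸ q) := Algebra.FiniteType.of_surjective (Ideal.Quotient.mkₐ K q) (Ideal.Quotient.mkₐ_surjective K q)
  obtain ⟨e, he⟩ := exists_nat_dim K (R ⧸ P)
  obtain ⟨b, hb⟩ := exists_nat_dim K (R ⧸ p)
  obtain ⟨c, hc⟩ := exists_nat_dim K (R ⧸ q)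
  rw [hn, he] at hOP
  obtain ⟨mo, hmo, e1⟩ := nat_of_add hOP
  have hp' := hOq p inferInstance hp
  have hq' := hOq q inferInstance hq
  rw [he, hb] at hp'
  rw [he, hc] at hq'
  obtain ⟨b', hb', e2⟩ := nat_of_add hp'
  obtain ⟨c', hc', e3⟩ := nat_of_add hq'
  rw [hn, he] at hd0
  rw [he, hb, hc] at hd
  rw [hO, hmo] at hlen
  rw [← hlen] at hd0
  rw [hb', hc', hmo] at hlt
  have e4 : mo + D.g.length + e = n + n := by exact_mod_cast hd0
  have e5 : b' + c' < mo := by exact_mod_cast hlt
  have hd' : ringKrullDim (BB K P ⧸ (J0 K p q).map (algebraMap (R ⊗[K] R) (BB K P))) + (e : WithBot ℕ∞) =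
      ((b + c : ℕ) : WithBot ℕ∞) := by rw [hd]; push_cast; rfl
  obtain ⟨z, hzv, e6⟩ := nat_of_add hd'
  rw [hzv]
  exact_mod_cast (show z < D.g.length by omega)

end GrothLib.Diag
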