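import Groth.Agent.Lib.ChiDev4.Add
import Groth.Agent.Lib.ChiDev4.Vanish
import Groth.Agent.Lib.ChiDev4.Devissage
import Groth.Agent.Lib.CycCut.Local
import Groth.Agent.Lib.MultOne4.Main
import Groth.Agent.Lib.QuasiFlat.Basic
import Groth.Agent.Lib.Diag.Scheme

/-! The intersection product of the cycles of two coherent modules. -/

set_option autoImplicit false
set_option linter.style.haveILetI false
set_option backward.isDefEq.respectTransparency false
set_option maxHeartbeats 1000000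

universe u

open CategoryTheory AlgebraicGeometry IsLocalRing TopologicalSpace
open GrothLib.CycDiv (primeOf)

namespace GrothLib.ChiDev4

variable {X : Scheme.{u}}

theorem primeOf_fromSpecStalk {ζ : X} (P : PrimeSpectrum (X.presheaf.stalk ζ)) :
    primeOf (GrothLib.CycBasic.specializes_fromSpecStalk P) = P.asIdeal := by
  rw [primeOf, GrothLib.CycBasic.ker_specMap]
  refine congrArg PrimeSpectrum.asIdeal ((X.fromSpecStalk ζ).isEmbedding.injective ?_)
  exact GrothLib.CycBasic.fromSpecStalk_comap_closedPoint _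

theorem mem_support_iff_nontrivial (F : X.Modules) [F.IsQuasicoherent] {ζ : X}
    (P : PrimeSpectrum (X.presheaf.stalk ζ)) :
    P ∈ Module.support (X.presheaf.stalk ζ) (F.presheaf.stalk ζ) ↔
      Nontrivial (F.presheaf.stalk (X.fromSpecStalk ζ P)) := by
  have e : (⟨primeOf (GrothLib.CycBasic.specializes_fromSpecStalk P), inferInstance⟩ :
      PrimeSpectrum (X.presheaf.stalk ζ)) = P := PrimeSpectrum.ext (primeOf_fromSpecStalk P)
  conv_lhs => rw [← e]
  rw [Module.mem_support_iff, ← not_subsingleton_iff_nontrivial, ← not_subsingleton_iff_nontrivial, not_iff_not]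
  exact GrothLib.CycCut.subsingleton_localized_iff F (GrothLib.CycBasic.specializes_fromSpecStalk P)

theorem lenE_eq_length (F : X.Modules) [F.IsQuasicoherent] {ζ : X} (P : PrimeSpectrum (X.presheaf.stalk ζ)) :
    lenE P (F.presheaf.stalk ζ) =
      Module.length (X.presheaf.stalk (X.fromSpecStalk ζ P)) (F.presheaf.stalk (X.fromSpecStalk ζ P)) := by
  have e : (⟨primeOf (GrothLib.CycBasic.specializes_fromSpecStalk P), inferInstance⟩ :
      PrimeSpectrum (X.presheaf.stalk ζ)) = P := PrimeSpectrum.ext (primeOf_fromSpecStalk P)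
  conv_lhs => rw [← e]
  exact GrothLib.CycCut.length_eq_localized F (GrothLib.CycBasic.specializes_fromSpecStalk P)

theorem nontrivial_of_specializes (F : X.Modules) [F.IsQuasicoherent] {ξ ζ : X} (h : ξ ⤳ ζ)
    (hξ : Nontrivial (F.presheaf.stalk ξ)) : Nontrivial (F.presheaf.stalk ζ) := by
  rw [← not_subsingleton_iff_nontrivial] at hξ ⊢
  intro hs
  refine hξ ((GrothLib.CycCut.subsingleton_localized_iff F h).1 ?_)
  exact LocalizedModule.subsingleton_iff.2 fun m => ⟨1, one_mem _, Subsingleton.elim _ _⟩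

theorem mult_eq {ζ : X} (P Q : PrimeSpectrum (X.presheaf.stalk ζ)) :
    IntMult.mult (IntMult.ptIdeal (X.fromSpecStalk ζ P)) (IntMult.ptIdeal (X.fromSpecStalk ζ Q)) ζ =
      IntMult.chi (X.presheaf.stalk ζ) (↑(X.presheaf.stalk ζ) ⧸ Q.asIdeal) (↑(X.presheaf.stalk ζ) ⧸ P.asIdeal) := by
  rw [IntMult.mult, GrothLib.MultOne4.stalkIdeal_ptIdeal (GrothLib.CycBasic.specializes_fromSpecStalk P),
    GrothLib.MultOne4.stalkIdeal_ptIdeal (GrothLib.CycBasic.specializes_fromSpecStalk Q),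
    primeOf_fromSpecStalk, primeOf_fromSpecStalk]

/-- The two base facts, at the stalk. -/
theorem finite_and_vanish {K : Type u} [Field K] [IsAlgClosed K] (f : X ⟶ Spec (CommRingCat.of K)) [Smooth f]
    [IsIntegral X] (ζ : X) (P Q : PrimeSpectrum (X.presheaf.stalk ζ))
    (hfin : Module.length (X.presheaf.stalk ζ) (↑(X.presheaf.stalk ζ) ⧸ (P.asIdeal ⊔ Q.asIdeal)) ≠ ⊤) :
    (∀ i : ℕ, Module.length (X.presheaf.stalk ζ) (DRing.Tor (X.presheaf.stalk ζ) i
      (↑(X.presheaf.stalk ζ) ⧸ Q.asIdeal) (↑(X.presheaf.stalk ζ) ⧸ P.asIdeal)) ≠ ⊤) ∧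
    (ringKrullDim (↑(X.presheaf.stalk ζ) ⧸ P.asIdeal) + ringKrullDim (↑(X.presheaf.stalk ζ) ⧸ Q.asIdeal) <
        ringKrullDim (X.presheaf.stalk ζ) →
      IntMult.chi (X.presheaf.stalk ζ) (↑(X.presheaf.stalk ζ) ⧸ Q.asIdeal)
        (↑(X.presheaf.stalk ζ) ⧸ P.asIdeal) = 0) := by
  obtain ⟨_, ⟨U, hU, rfl⟩, hζU, -⟩ :=
    X.isBasis_affineOpens.exists_subset_of_mem_open (Set.mem_univ ζ) isOpen_univ
  have hU : IsAffineOpen U := hU
  haveI : Nonempty U := ⟨⟨ζ, hζU⟩⟩
  obtain ⟨ψ, hψ, hψ'⟩ := GrothLib.Dim.exists_finiteType_specMap f hU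
  have hsm : ψ.hom.Smooth := by
    rw [← HasRingHomProperty.Spec_iff (P := @Smooth), ← hψ']
    infer_instance
  algebraize [ψ.hom]
  haveI : Algebra.FiniteType K Γ(X, U) := hψ
  haveI : Algebra.Smooth K Γ(X, U) := hsm
  let _ := TopCat.Presheaf.algebra_section_stalk X.presheaf (⟨ζ, hζU⟩ : U)
  haveI := hU.isLocalization_stalk ⟨ζ, hζU⟩
  let P₀ := (hU.primeIdealOf ⟨ζ, hζU⟩).asIdeal
  have hle : ∀ L : PrimeSpectrum (X.presheaf.stalk ζ), L.asIdeal.comap (algebraMap Γ(X, U) (X.presheaf.stalk ζ)) ≤ P₀ := by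
    intro L a ha
    by_contra hne
    exact L.isPrime.ne_top (Ideal.eq_top_of_isUnit_mem _ ha
      (IsLocalization.map_units (X.presheaf.stalk ζ) (⟨a, hne⟩ : P₀.primeCompl)))
  have hmap : ∀ L : PrimeSpectrum (X.presheaf.stalk ζ),
      (L.asIdeal.comap (algebraMap Γ(X, U) (X.presheaf.stalk ζ))).map (algebraMap Γ(X, U) (X.presheaf.stalk ζ)) = L.asIdeal :=
    fun L => IsLocalization.map_comap P₀.primeCompl (X.presheaf.stalk ζ) L.asIdeal
  have h := @GrothLib.Diag.finite_and_vanish_affine K _ Γ(X, U) _ _ _ _ _ P₀ _ _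
    (P.asIdeal.comap (algebraMap Γ(X, U) (X.presheaf.stalk ζ))) (Q.asIdeal.comap (algebraMap Γ(X, U) (X.presheaf.stalk ζ)))
    (Ideal.IsPrime.comap _) (Ideal.IsPrime.comap _) (hle P) (hle Q) (X.presheaf.stalk ζ) _ _ _
  rw [hmap P, hmap Q] at h
  exact h hfin

theorem interProd_sheafFun {K : Type u} [Field K] [IsAlgClosed K] (f : X ⟶ Spec (CommRingCat.of K)) [Smooth f]
    [IsIntegral X] {δ : X → ℤ} (hX : Cyc.IsSetup X δ) (n : ℤ) (hn : δ (genericPoint X) = n)
    (F G : X.Modules) (hF : Coh.IsCoh F) (hG : Coh.IsCoh G) (r s : ℤ)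
    (hr : ∀ x : X, Nontrivial (F.presheaf.stalk x) → δ x ≤ r)
    (hs : ∀ x : X, Nontrivial (G.presheaf.stalk x) → δ x ≤ s)
    (hrs : ∀ x : X, Nontrivial (F.presheaf.stalk x) → Nontrivial (G.presheaf.stalk x) → δ x ≤ r + s - n) :
    IntMult.IntersectProperly δ n (Cyc.sheafFun δ r F) (Cyc.sheafFun δ s G) ∧
      ∀ ζ : X, IntMult.interProd δ n (Cyc.sheafFun δ r F) (Cyc.sheafFun δ s G) ζ =
        if δ ζ = r + s - n then
          IntMult.chi ↑(X.presheaf.stalk ζ) ↑(F.presheaf.stalk ζ) ↑(G.presheaf.stalk ζ) else 0 := by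
  classical
  haveI := hX.1
  have hδ : Cyc.IsDimFun X δ := hX.2.2
  haveI := hF.1
  haveI := hG.1
  have supp : ∀ (H : X.Modules) (k : ℤ) (x : X), Cyc.sheafFun δ k H x ≠ 0 →
      δ x = k ∧ Nontrivial (H.presheaf.stalk x) := by
    intro H k x h
    unfold Cyc.sheafFun at h
    split_ifs at h with hx
    · refine ⟨hx, not_subsingleton_iff_nontrivial.1 fun hsub => h ?_⟩
      rw [Module.length_eq_zero]
      simp
    · exact absurd rfl h
  refine ⟨fun ξ η ζ hξ hη hξζ hηζ => ?_, fun ζ => ?_⟩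
  · obtain ⟨e1, n1⟩ := supp F r ξ hξ
    obtain ⟨e2, n2⟩ := supp G s η hη
    rw [e1, e2]
    exact hrs ζ (nontrivial_of_specializes F hξζ n1) (nontrivial_of_specializes G hηζ n2)
  by_cases hζ : δ ζ = r + s - n
  swap
  · rw [if_neg hζ]
    refine finsum_eq_zero_of_forall_eq_zero fun p => ?_
    by_contra hne
    obtain ⟨h12, -⟩ := mul_ne_zero_iff.1 hne
    obtain ⟨h1, h2⟩ := mul_ne_zero_iff.1 h12
    have e1 := (supp F r _ h1).1
    have e2 := (supp G s _ h2).1
    exact hζ (by rw [← p.2.2.2, e1, e2])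
  rw [if_pos hζ]
  let A := X.presheaf.stalk ζ
  haveI hreg : IsRegularLocalRing A := GrothLib.WeilExt.isRegularLocalRing_stalk_of_smooth f
    (GrothLib.WeilExt.isRegularLocalRing_stalk_spec K) ζ
  haveI := GrothLib.QuasiFlat.finite_stalk F hF ζ
  haveI := GrothLib.QuasiFlat.finite_stalk G hG ζ
  have ha : ringKrullDim A = ((n - δ ζ).toNat : WithBot ℕ∞) := by
    have hbot : primeOf (genericPoint_specializes ζ) = ⊥ := by
      refine (eq_bot_iff).2 fun a ha => ?_
      rw [GrothLib.CycDiv.mem_primeOf_iff] at ha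
      have h0 : maximalIdeal (X.presheaf.stalk (genericPoint X)) = ⊥ :=
        isField_iff_maximalIdeal_eq.1 (Field.toIsField X.functionField)
      rw [h0, Ideal.mem_bot] at ha
      exact Ideal.mem_bot.2 (GrothLib.MorQ9.injective_stalkSpecializes_generic ζ (ha.trans (map_zero _).symm))
    rw [← hn, ← GrothLib.MultOne4.dim_quotient_primeOf hδ (genericPoint_specializes ζ),
      ringKrullDim_eq_of_ringEquiv ((Ideal.quotEquivOfEq hbot).trans (RingEquiv.quotientBot _))]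
  let pt : PrimeSpectrum A → X := fun P => X.fromSpecStalk ζ P
  have hsp : ∀ P : PrimeSpectrum A, pt P ⤳ ζ := fun P => GrothLib.CycBasic.specializes_fromSpecStalk P
  have hinj : Function.Injective pt := (X.fromSpecStalk ζ).isEmbedding.injective
  have hdim : ∀ P : PrimeSpectrum A, ringKrullDim (A ⧸ P.asIdeal) = ((δ (pt P) - δ ζ).toNat : WithBot ℕ∞) := by
    intro P
    rw [← GrothLib.MultOne4.dim_quotient_primeOf hδ (hsp P),
      ringKrullDim_eq_of_ringEquiv (Ideal.quotEquivOfEq (primeOf_fromSpecStalk P))]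
  let S : ∀ (H : X.Modules) (k : ℤ), Set (PrimeSpectrum A) := fun H k =>
    {P | P ∈ Module.support A (H.presheaf.stalk ζ) ∧ δ (pt P) = k}
  have anti : ∀ (H : X.Modules) [H.IsQuasicoherent] (k : ℤ), (∀ x : X, Nontrivial (H.presheaf.stalk x) → δ x ≤ k) →
      ∀ P ∈ Module.support A (H.presheaf.stalk ζ), ∀ Q ∈ S H k, P.asIdeal ≤ Q.asIdeal → P = Q := by
    intro H _ k hk P hP Q hQ hPQ
    by_contra hne
    have h1 := hk _ ((mem_support_iff_nontrivial H P).1 hP)
    have h2 := (hδ (pt P) (pt Q) (GrothLib.CycBasic.le_iff_specializes.1 hPQ) fun e => hne (hinj e)).1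
    have h3 : δ (pt Q) = k := hQ.2
    change δ (pt P) ≤ k at h1
    omega
  have hfinS : ∀ (H : X.Modules) [H.IsQuasicoherent] [Module.Finite A (H.presheaf.stalk ζ)] (k : ℤ),
      (∀ x : X, Nontrivial (H.presheaf.stalk x) → δ x ≤ k) → (S H k).Finite := by
    intro H _ _ k hk
    refine Set.Finite.of_finite_image (f := PrimeSpectrum.asIdeal)
      ((Ideal.finite_minimalPrimes_of_isNoetherianRing A (Module.annihilator A (H.presheaf.stalk ζ))).subset ?_)
      fun P _ Q _ e => PrimeSpectrum.ext e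
    rintro _ ⟨Q, hQ, rfl⟩
    refine ⟨⟨Q.isPrime, Module.mem_support_iff_of_finite.1 hQ.1⟩, fun q hq hqQ => ?_⟩
    obtain ⟨hqp, hqa⟩ := hq
    exact (congrArg PrimeSpectrum.asIdeal
      (anti H k hk ⟨q, hqp⟩ (Module.mem_support_iff_of_finite.2 hqa) Q hQ hqQ)).ge
  let SF := (hfinS F r hr).toFinset
  let SG := (hfinS G s hs).toFinset
  have hlenfin : ∀ P ∈ Module.support A (F.presheaf.stalk ζ), ∀ Q ∈ Module.support A (G.presheaf.stalk ζ),
      Module.length A (A ⧸ (P.asIdeal ⊔ Q.asIdeal)) ≠ ⊤ := by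
    intro P hP Q hQ
    refine (GrothLib.FiniteLengthSupp.length_lt_top ?_).ne
    rw [Module.supportDim_quotient_eq_ringKrullDim, ringKrullDim_quotient, Order.krullDim_nonpos_iff_forall_isMax]
    rintro ⟨L, hL⟩ ⟨L', hL'⟩ hLL
    rw [PrimeSpectrum.mem_zeroLocus, SetLike.coe_subset_coe] at hL
    have h1 := Module.mem_support_mono (p := P) (q := L) (le_sup_left.trans hL) hP
    have h2 := Module.mem_support_mono (p := Q) (q := L) (le_sup_right.trans hL) hQ
    have h3 : δ (pt L) ≤ r + s - n :=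
      hrs _ ((mem_support_iff_nontrivial F L).1 h1) ((mem_support_iff_nontrivial G L).1 h2)
    have h4 : pt L = ζ := by
      by_contra hne
      have := (hδ (pt L) ζ (hsp L) hne).1
      omega
    have hPM : L = closedPoint A := hinj (h4.trans Scheme.fromSpecStalk_closedPoint.symm)
    show L' ≤ L
    rw [hPM]
    exact IsLocalRing.le_maximalIdeal L'.isPrime.ne_top
  have hv : ∀ P ∈ Module.support A (F.presheaf.stalk ζ), ∀ Q ∈ Module.support A (G.presheaf.stalk ζ),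
      (P ∉ SF ∨ Q ∉ SG) → IntMult.chi A (A ⧸ Q.asIdeal) (A ⧸ P.asIdeal) = 0 := by
    intro P hP Q hQ hor
    refine (finite_and_vanish f ζ P Q (hlenfin P hP Q hQ)).2 ?_
    rw [hdim P, hdim Q, ha]
    have h1 : δ (pt P) ≤ r := hr _ ((mem_support_iff_nontrivial F P).1 hP)
    have h2 : δ (pt Q) ≤ s := hs _ ((mem_support_iff_nontrivial G Q).1 hQ)
    have h3 := GrothLib.CycBasic.delta_le hδ (hsp P)
    have h4 := GrothLib.CycBasic.delta_le hδ (hsp Q)
    have h5 : δ (pt P) ≠ r ∨ δ (pt Q) ≠ s := hor.imp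
      (fun h e => h ((Set.Finite.mem_toFinset _).2 ⟨hP, e⟩)) (fun h e => h ((Set.Finite.mem_toFinset _).2 ⟨hQ, e⟩))
    exact_mod_cast (show (δ (pt P) - δ ζ).toNat + (δ (pt Q) - δ ζ).toNat < (n - δ ζ).toNat by omega)
  have hpd : ∀ (M : Type u) [AddCommGroup M] [Module A M] [Module.Finite A M],
      HasProjectiveDimensionLE (ModuleCat.of A M) (n - δ ζ).toNat :=
    fun M _ _ _ => GrothLib.Serre.pdLE_of_isRegularLocalRing A _ ha M
  let c : PrimeSpectrum A → ℤ := fun P =>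
    ∑ Q ∈ SG, ((lenE Q (G.presheaf.stalk ζ)).toNat : ℤ) * IntMult.chi A (A ⧸ Q.asIdeal) (A ⧸ P.asIdeal)
  have step : ∀ P ∈ Module.support A (F.presheaf.stalk ζ),
      (∀ i, Module.length A (DRing.Tor A i (G.presheaf.stalk ζ) (A ⧸ P.asIdeal)) ≠ ⊤) ∧
        IntMult.chi A (G.presheaf.stalk ζ) (A ⧸ P.asIdeal) = c P := by
    intro P hP
    refine devissage (Module.support A (G.presheaf.stalk ζ)) SG
      (fun L hL Q hQ => anti G s hs L hL Q ((Set.Finite.mem_toFinset _).1 hQ))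
      (fun N _ _ => IntMult.chi A N (A ⧸ P.asIdeal))
      (fun N _ _ => ∀ i, Module.length A (DRing.Tor A i N (A ⧸ P.asIdeal)) ≠ ⊤)
      (fun Q => IntMult.chi A (A ⧸ Q.asIdeal) (A ⧸ P.asIdeal)) ?_ ?_ ?_ ?_ _ subset_rfl
    · intro N _ _ _
      exact ⟨fun i => by rw [length_tor_of_subsingleton]; exact ENat.zero_ne_top, chi_of_subsingleton N⟩
    · intro Q hQ _ N _ _ e
      exact ⟨fun i => by rw [length_tor_congr e]; exact (finite_and_vanish f ζ P Q (hlenfin P hP Q hQ)).1 i,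
        chi_congr e⟩
    · intro Q hQ hQS N _ _ e
      exact ⟨fun i => by rw [length_tor_congr e]; exact (finite_and_vanish f ζ P Q (hlenfin P hP Q hQ)).1 i,
        (chi_congr e).trans (hv P hP Q hQ (Or.inr hQS))⟩
    · intro N₁ N₂ N₃ _ _ _ _ _ _ g₁ g₂ hf₁ hg₂ hex t1 t3
      exact chi_short (hpd (A ⧸ P.asIdeal)) hf₁ hg₂ hex t1 t3
  have main : IntMult.chi A (F.presheaf.stalk ζ) (G.presheaf.stalk ζ) =
      ∑ P ∈ SF, ((lenE P (F.presheaf.stalk ζ)).toNat : ℤ) * c P := by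
    refine (devissage (Module.support A (F.presheaf.stalk ζ)) SF
      (fun L hL Q hQ => anti F r hr L hL Q ((Set.Finite.mem_toFinset _).1 hQ))
      (fun M _ _ => IntMult.chi A M (G.presheaf.stalk ζ))
      (fun M _ _ => ∀ i, Module.length A (DRing.Tor A i M (G.presheaf.stalk ζ)) ≠ ⊤) c ?_ ?_ ?_ ?_
      (F.presheaf.stalk ζ) subset_rfl).2
    · intro M _ _ _
      exact ⟨fun i => by rw [length_tor_of_subsingleton]; exact ENat.zero_ne_top, chi_of_subsingleton M⟩
    · intro P hP _ M _ _ e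
      refine ⟨fun i => ?_, ?_⟩
      · rw [length_tor_congr e, GrothLib.KoszulEuler.length_tor_comm]
        exact (step P hP).1 i
      · rw [chi_congr e, GrothLib.KoszulEuler.intMult_chi_comm]
        exact (step P hP).2
    · intro P hP hPS M _ _ e
      refine ⟨fun i => ?_, ?_⟩
      · rw [length_tor_congr e, GrothLib.KoszulEuler.length_tor_comm]
        exact (step P hP).1 i
      · rw [chi_congr e, GrothLib.KoszulEuler.intMult_chi_comm, (step P hP).2]
        exact Finset.sum_eq_zero fun Q hQ => by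
          rw [hv P hP Q ((Set.Finite.mem_toFinset _).1 hQ).1 (Or.inl hPS), mul_zero]
    · intro N₁ N₂ N₃ _ _ _ _ _ _ g₁ g₂ hf₁ hg₂ hex t1 t3
      exact chi_short (hpd _) hf₁ hg₂ hex t1 t3
  rw [main]
  have hS : ∀ x : {x // x ∈ SF ×ˢ SG}, δ (pt x.1.1) + δ (pt x.1.2) - n = δ ζ := fun x => by
    obtain ⟨h1, h2⟩ := Finset.mem_product.1 x.2
    rw [((Set.Finite.mem_toFinset _).1 h1).2, ((Set.Finite.mem_toFinset _).1 h2).2, hζ]
  let ι : {x // x ∈ SF ×ˢ SG} → {p : X × X // p.1 ⤳ ζ ∧ p.2 ⤳ ζ ∧ δ p.1 + δ p.2 - n = δ ζ} :=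
    fun x => ⟨(pt x.1.1, pt x.1.2), hsp _, hsp _, hS x⟩
  show (∑ᶠ p : {p : X × X // p.1 ⤳ ζ ∧ p.2 ⤳ ζ ∧ δ p.1 + δ p.2 - n = δ ζ},
    Cyc.sheafFun δ r F p.1.1 * Cyc.sheafFun δ s G p.1.2 *
      IntMult.mult (IntMult.ptIdeal p.1.1) (IntMult.ptIdeal p.1.2) ζ) = _
  rw [finsum_eq_sum_of_support_subset _ (s := (SF ×ˢ SG).attach.image ι), Finset.sum_image]
  · rw [Finset.sum_attach (SF ×ˢ SG) (fun x => Cyc.sheafFun δ r F (pt x.1) * Cyc.sheafFun δ s G (pt x.2) *
      IntMult.mult (IntMult.ptIdeal (pt x.1)) (IntMult.ptIdeal (pt x.2)) ζ), Finset.sum_product]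
    refine Finset.sum_congr rfl fun P hP => ?_
    rw [Finset.mul_sum]
    refine Finset.sum_congr rfl fun Q hQ => ?_
    rw [mult_eq, lenE_eq_length F P, lenE_eq_length G Q]
    unfold Cyc.sheafFun
    rw [if_pos ((Set.Finite.mem_toFinset _).1 hP).2, if_pos ((Set.Finite.mem_toFinset _).1 hQ).2, mul_assoc]
  · intro x _ y _ e
    have e' := congrArg Subtype.val e
    exact Subtype.ext (Prod.ext (hinj (congrArg Prod.fst e')) (hinj (congrArg Prod.snd e')))
  · intro p hp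
    obtain ⟨h12, -⟩ := mul_ne_zero_iff.1 hp
    obtain ⟨h1, h2⟩ := mul_ne_zero_iff.1 h12
    obtain ⟨e1, n1⟩ := supp F r _ h1
    obtain ⟨e2, n2⟩ := supp G s _ h2
    have m1 : (⟨primeOf p.2.1, inferInstance⟩ : PrimeSpectrum A) ∈ SF := by
      refine (Set.Finite.mem_toFinset _).2 ⟨(mem_support_iff_nontrivial F _).2 ?_, ?_⟩
      · rw [GrothLib.MultOne4.fromSpecStalk_primeOf]; exact n1
      · show δ (X.fromSpecStalk ζ _) = r
        rw [GrothLib.MultOne4.fromSpecStalk_primeOf]; exact e1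
    have m2 : (⟨primeOf p.2.2.1, inferInstance⟩ : PrimeSpectrum A) ∈ SG := by
      refine (Set.Finite.mem_toFinset _).2 ⟨(mem_support_iff_nontrivial G _).2 ?_, ?_⟩
      · rw [GrothLib.MultOne4.fromSpecStalk_primeOf]; exact n2
      · show δ (X.fromSpecStalk ζ _) = s
        rw [GrothLib.MultOne4.fromSpecStalk_primeOf]; exact e2
    refine Finset.mem_coe.2 (Finset.mem_image.2 ⟨⟨(⟨primeOf p.2.1, inferInstance⟩, ⟨primeOf p.2.2.1, inferInstance⟩),
      Finset.mem_product.2 ⟨m1, m2⟩⟩, Finset.mem_attach _ _, ?_⟩)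
    exact Subtype.ext (Prod.ext (GrothLib.MultOne4.fromSpecStalk_primeOf p.2.1)
      (GrothLib.MultOne4.fromSpecStalk_primeOf p.2.2.1))

end GrothLib.ChiDev4
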