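import Groth.Agent.Lib.CycP1.Cycle
import Groth.Agent.Lib.CycP1.Sheaf
import Groth.Agent.Lib.IntMult3.Mult
import Groth.Agent.Lib.MultOne4.Main
import Groth.Agent.Lib.QCoh.Pieces
import Groth.Agent.Lib.ExtP17.Main
import Groth.Agent.Lib.ChiDev4.DiagProd

/-! Intersections with the fibres over 0 and ∞. -/

set_option autoImplicit false
set_option linter.style.haveILetI false
set_option backward.isDefEq.respectTransparency false
set_option maxHeartbeats 1000000

universe u

open CategoryTheory AlgebraicGeometry IsLocalRing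
open GrothLib.CycP1 GrothLib.CycDiv

namespace GrothLib.ChiDev4

variable {K : Type u} [Field K] [IsAlgClosed K] {X : Scheme.{u}} (f : X ⟶ Spec (CommRingCat.of K)) [Smooth f]
  [IsIntegral X]

include f in
theorem mult_sect [IsLocallyNoetherian (CohB1.ProjSpaceOver 1 X)] (i : Fin (1 + 1)) (x : X)
    {ξ : ↥(CohB1.ProjSpaceOver 1 X)} (hξ : ξ ∉ Set.range (P1.sect X i)) (hs : ξ ⤳ P1.sect X i x) :
    IntMult.mult (IntMult.ptIdeal ξ) (IntMult.ptIdeal (P1.sect X i (genericPoint X))) (P1.sect X i x) =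
      ((Ring.ord (Cyc.LocQuot _ ξ hs)
        (Ideal.Quotient.mk _ (coordAt (inChart_of_mem_range (Set.mem_range_self (f := P1.sect X i) x))))).toNat : ℤ) := by
  haveI : Smooth (CohB1.ProjSpaceOver.toBase 1 X ≫ f) := inferInstance
  haveI := GrothLib.WeilExt.isRegularLocalRing_stalk_of_smooth (CohB1.ProjSpaceOver.toBase 1 X ≫ f)
    (GrothLib.WeilExt.isRegularLocalRing_stalk_spec K) (P1.sect X i x)
  set A := (CohB1.ProjSpaceOver 1 X).presheaf.stalk (P1.sect X i x)
  set c : A := coordAt (inChart_of_mem_range (Set.mem_range_self (f := P1.sect X i) x))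
  have hg : IntMult.stalkIdeal (IntMult.ptIdeal (P1.sect X i (genericPoint X))) (P1.sect X i x) =
      Ideal.span (Set.range ![c]) := by
    rw [GrothLib.MultOne4.stalkIdeal_ptIdeal ((genericPoint_specializes x).map (P1.sect X i).continuous),
      ← ker_stalkMap_eq_primeOf (P1.sect X i) rfl x, ker_sect_stalkMap, Matrix.range_cons, Matrix.range_empty,
      Set.union_empty]
  have hc : c ∉ primeOf hs := not_mem_primeOf hξ hs _
  have hreg : RingTheory.Sequence.IsWeaklyRegular A (List.ofFn ![c]) := by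
    simp only [List.ofFn_succ, List.ofFn_zero, Matrix.cons_val_zero, RingTheory.Sequence.isWeaklyRegular_singleton_iff]
    haveI : IsDomain A := GrothLib.CMFree.isDomain_of_isRegularLocalRing _
    exact (IsRegular.of_ne_zero fun h => hc (by rw [h]; exact (primeOf hs).zero_mem)).left.isSMulRegular
  have hreg' : RingTheory.Sequence.IsWeaklyRegular (A ⧸ primeOf hs) (List.ofFn ![c]) := by
    simp only [List.ofFn_succ, List.ofFn_zero, Matrix.cons_val_zero, RingTheory.Sequence.isWeaklyRegular_singleton_iff]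
    intro a b hab
    have hne : Ideal.Quotient.mk (primeOf hs) c ≠ 0 := fun h => hc (Ideal.Quotient.eq_zero_iff_mem.1 h)
    exact mul_left_cancel₀ hne hab
  rw [IntMult.mult, GrothLib.MultOne4.stalkIdeal_ptIdeal hs, GrothLib.KoszulEuler.intMult_chi_comm,
    GrothLib.IntMult3.mult_eq_chi hg hreg, GrothLib.IntMult3.chi_eq_length hg hreg', hg, Matrix.range_cons,
    Matrix.range_empty, Set.union_empty]
  congr 2
  have hk : RingHom.ker (Ideal.Quotient.factor (le_sup_left : primeOf hs ≤ primeOf hs ⊔ Ideal.span {c})) =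
      Ideal.span {Ideal.Quotient.mk (primeOf hs) c} := by
    rw [Ideal.Quotient.factor_ker, Ideal.map_sup, Ideal.map_quotient_self, bot_sup_eq, Ideal.map_span,
      Set.image_singleton]
  rw [Module.length_eq_of_surjective (S := A) (R := A ⧸ (primeOf hs ⊔ Ideal.span {c})) Ideal.Quotient.mk_surjective]
  exact length_eq_ord (Ideal.Quotient.mk (primeOf hs)) _ Ideal.Quotient.mk_surjective
    (Ideal.Quotient.factor_surjective le_sup_left) Ideal.mk_ker c hk

variable {δ : X → ℤ} {δP : ↥(CohB1.ProjSpaceOver 1 X) → ℤ}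

include f in
theorem map_interProd_fibre_diff [QuasiCompact f] (hX : Cyc.IsSetup X δ) {n : ℤ}
    (hn : δ (genericPoint X) = n) [QuasiCompact (CohB1.ProjSpaceOver.toBase 1 X)]
    (hP : Cyc.DeltaCompat (CohB1.ProjSpaceOver.toBase 1 X) δP δ) (k : ℤ)
    (α : AlgebraicCycle (CohB1.ProjSpaceOver 1 X) ℤ) (hα : α ∈ Cyc.Zk _ δP (k + 1))
    (h0 : IntMult.IntersectProperly δP (n + 1) ⇑α (Set.indicator {P1.sect X 0 (genericPoint X)} 1))
    (h1 : IntMult.IntersectProperly δP (n + 1) ⇑α (Set.indicator {P1.sect X 1 (genericPoint X)} 1))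
    (γ : AlgebraicCycle (CohB1.ProjSpaceOver 1 X) ℤ)
    (hγ : ⇑γ = IntMult.interProd δP (n + 1) ⇑α (Set.indicator {P1.sect X 0 (genericPoint X)} 1) -
      IntMult.interProd δP (n + 1) ⇑α (Set.indicator {P1.sect X 1 (genericPoint X)} 1)) :
    Cyc.RatEquivZero δ k (AlgebraicCycle.map (CohB1.ProjSpaceOver.toBase 1 X) δP δ γ) := by
  classical
  haveI := hX.1
  haveI := isLocallyNoetherian_P (X := X)
  haveI : CompactSpace X := QuasiCompact.compactSpace_of_compactSpace f
  haveI : CompactSpace ↥(CohB1.ProjSpaceOver 1 X) :=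
    QuasiCompact.compactSpace_of_compactSpace (CohB1.ProjSpaceOver.toBase 1 X)
  have hgenS : ∀ (i : Fin (1 + 1)) {w}, P1.sect X i (genericPoint X) ⤳ w ↔ w ∈ Set.range (P1.sect X i) :=
    fun i {w} => by rw [specializes_iff_mem_closure, GrothLib.QCoh.closure_singleton_eq_range (i := P1.sect X i)]
  have hk1 : ∀ ξ, α ξ ≠ 0 → δP ξ = k + 1 := fun ξ h => by_contra fun e => h (hα ξ e)
  have hnot : ∀ i : Fin (1 + 1), ∀ ξ, α ξ ≠ 0 → ξ ∉ Set.range (P1.sect X i) := by
    intro i ξ hξ hr
    have := hk1 ξ hξ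
    have hi : (Set.indicator {P1.sect X i (genericPoint X)} 1 : _ → ℤ) (P1.sect X i (genericPoint X)) ≠ 0 := by simp
    have e : δP (P1.sect X i (genericPoint X)) = n := (δP_sect hP i _).trans hn
    obtain rfl | rfl : i = 0 ∨ i = 1 := (show ∀ i : Fin (1 + 1), i = 0 ∨ i = 1 by decide) i
    · have := h0 ξ _ ξ hξ hi specializes_rfl ((hgenS 0).2 hr); omega
    · have := h1 ξ _ ξ hξ hi specializes_rfl ((hgenS 1).2 hr); omega
  set T := (GrothLib.ExtP17.finite_support α).toFinset
  have hout : ∀ i : Fin (1 + 1), ∀ w, w ∉ Set.range (P1.sect X i) →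
      IntMult.interProd δP (n + 1) ⇑α (Set.indicator {P1.sect X i (genericPoint X)} 1) w = 0 := by
    intro i w hw
    refine finsum_eq_zero_of_forall_eq_zero fun p => by_contra fun hp => hw ((hgenS i).1 ?_)
    exact (Set.mem_singleton_iff.1 (Set.mem_of_indicator_ne_zero (right_ne_zero_of_mul (left_ne_zero_of_mul hp)))) ▸ p.2.2.1
  let ιs : ∀ ξ : ↥(CohB1.ProjSpaceOver 1 X), (IntMult.ptIdeal ξ).subscheme ⟶ CohB1.ProjSpaceOver 1 X :=
    fun ξ => (IntMult.ptIdeal ξ).subschemeι
  haveI : ∀ ξ : ↥(CohB1.ProjSpaceOver 1 X), IsIntegral (IntMult.ptIdeal ξ).subscheme := fun ξ => Snapper.isIntegral_pt ξ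
  have hgen : ∀ ξ, ιs ξ (genericPoint _) = ξ := by
    intro ξ
    have h := GrothLib.QCoh.closure_singleton_eq_range (i := ιs ξ)
    rw [Scheme.IdealSheafData.range_subschemeι,
      show ((IntMult.ptIdeal ξ).support : Set ↥(CohB1.ProjSpaceOver 1 X)) = closure {ξ} from
        Scheme.IdealSheafData.coe_support_vanishingIdeal _] at h
    exact ((specializes_iff_closure_subset.2 h.ge).antisymm (specializes_iff_closure_subset.2 h.le)).eq
  have hval : ∀ (i : Fin (1 + 1)) (x : X),
      IntMult.interProd δP (n + 1) ⇑α (Set.indicator {P1.sect X i (genericPoint X)} 1) (P1.sect X i x) =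
        ∑ ξ ∈ T, α ξ * Cyc.subschemeFun δ k (Limits.pullback.snd (ιs ξ) (P1.sect X i)) x := by
    intro i x
    have e : δP (P1.sect X i (genericPoint X)) = n := (δP_sect hP i _).trans hn
    let P := {p : ↥(CohB1.ProjSpaceOver 1 X) × ↥(CohB1.ProjSpaceOver 1 X) // p.1 ⤳ P1.sect X i x ∧
      p.2 ⤳ P1.sect X i x ∧ δP p.1 + δP p.2 - (n + 1) = δP (P1.sect X i x)}
    let E := {ξ : ↥(CohB1.ProjSpaceOver 1 X) // ξ ∈ T ∧ δ x = k ∧ ξ ⤳ P1.sect X i x}
    have hT : ∀ {ξ}, ξ ∈ T ↔ α ξ ≠ 0 := fun {ξ} => by simp [T]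
    let j : E → P := fun ξ => ⟨(ξ.1, P1.sect X i (genericPoint X)), ξ.2.2.2, (hgenS i).2 ⟨x, rfl⟩, by
      have := hk1 _ (hT.1 ξ.2.1); have := δP_sect hP i x; have := ξ.2.2.1; dsimp only; omega⟩
    have hj : Function.Injective j := fun a b h => Subtype.ext (congrArg (fun q : P => q.1.1) h)
    show (∑ᶠ p : P, _) = _
    rw [← finsum_mem_univ, finsum_mem_eq_of_support_range _ j, finsum_mem_range hj]
    · rw [← Finset.sum_coe_sort, ← finsum_eq_sum_of_fintype]
      symm
      obtain ⟨je, hje⟩ : ∃ je : E → ↥T, ∀ ξ : E, (je ξ).1 = ξ.1 := ⟨fun ξ => ⟨ξ.1, ξ.2.1⟩, fun _ => rfl⟩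
      have hinj : Function.Injective je := fun a b h => Subtype.ext (by rw [← hje a, h, hje b])
      rw [← finsum_mem_univ, finsum_mem_eq_of_support_range _ je, finsum_mem_range hinj]
      · refine finsum_congr fun ξ => ?_
        rw [hje]
        show α ξ.1 * _ = α ξ.1 * Set.indicator _ 1 (P1.sect X i (genericPoint X)) * _
        rw [subschemeFun_fibre (ιs ξ.1) hP (hgen ξ.1), dif_pos ⟨ξ.2.2.1, ξ.2.2.2⟩,
          Set.indicator_of_mem (Set.mem_singleton _), Pi.one_apply, mul_one,
          mult_sect f i x (hnot i _ (hT.1 ξ.2.1)) ξ.2.2.2]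
      · intro q hq
        have h := right_ne_zero_of_mul hq
        rw [subschemeFun_fibre (ιs q.1) hP (hgen q.1)] at h
        split_ifs at h with hc
        · exact ⟨⟨q.1, q.2, hc⟩, Subtype.ext (hje _)⟩
        · exact absurd rfl h
    · intro q hq
      have h2 := Set.mem_singleton_iff.1 (Set.mem_of_indicator_ne_zero (right_ne_zero_of_mul (left_ne_zero_of_mul hq)))
      have h1 := left_ne_zero_of_mul (left_ne_zero_of_mul hq)
      have := hk1 _ h1
      have := δP_sect hP i x
      have h5 := q.2.2.2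
      have := congrArg δP h2
      exact ⟨⟨q.1.1, hT.2 h1, by omega, q.2.1⟩, Subtype.ext (Prod.ext rfl h2.symm)⟩
  refine GrothLib.C1.RZ.to_ratEquivZero hX.2.2 ((GrothLib.PBDeg.rz_sum T hX.2.2
    (fun ξ x => α ξ * (Cyc.subschemeFun δ k (Limits.pullback.snd (ιs ξ) (P1.sect X 0)) x -
      Cyc.subschemeFun δ k (Limits.pullback.snd (ιs ξ) (P1.sect X 1)) x)) fun ξ hξ => ?_).congr fun x => ?_)
  · have hξ' : α ξ ≠ 0 := by simpa [T] using hξ
    refine GrothLib.ExtP17.rz_zsmul hX.2.2 (GrothLib.C1.RZ.congr ?_ (fun x =>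
      fibre_sub_fibre (ιs ξ) hX hP (hgen ξ) (hk1 ξ hξ') (hnot 0 ξ hξ') (hnot 1 ξ hξ') x)) _
    by_cases he : δP ξ = δ (CohB1.ProjSpaceOver.toBase 1 X ξ)
    · set η := CohB1.ProjSpaceOver.toBase 1 X ξ
      set g := Cyc.normGen (CohB1.ProjSpaceOver.toBase 1 X) ξ (t (hnot 1 ξ hξ'))
      have hsub : ∀ z, Function.update (fun z => (1 : X.residueField z)) η g z ≠ 1 → z = η := fun z h =>
        by_contra fun hz => h (Function.update_of_ne hz _ _)
      refine ⟨Function.update (fun z => (1 : X.residueField z)) η g, fun z => ?_,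
        fun x => ⟨⊤, trivial, (Set.finite_singleton η).subset fun z hz => hsub z hz.2⟩,
        fun z hz => ?_, fun x => ?_⟩
      · by_cases hz : z = η
        · subst hz; rw [Function.update_self]; exact normGen_t_ne_zero hP (hnot 0 ξ hξ') (hnot 1 ξ hξ') he
        · rw [Function.update_of_ne hz]; exact one_ne_zero
      · rw [hsub z hz]; exact he.symm.trans (hk1 ξ hξ')
      · beta_reduce
        rw [if_pos he, finsum_eq_single _ η fun z hz => by
          rw [Function.update_of_ne hz]; exact GrothLib.C1.divFun_one hX.2.2 z x, Function.update_self]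
    · exact (GrothLib.C1.RZ.zero hX.2.2 k).congr fun x => by rw [if_neg he]; rfl
  rw [GrothLib.CycPush.map_apply, finsum_mem_eq_sum_of_inter_support_eq _
    (t := {P1.sect X 0 x, P1.sect X 1 x}) ?_,
    Finset.sum_pair fun e => not_mem_both ⟨x, e⟩ (Set.mem_range_self x), mapCoeff_sect hP, mapCoeff_sect hP,
    Nat.cast_one, mul_one, mul_one, hγ, Pi.sub_apply, Pi.sub_apply,
    hout 1 _ (not_mem_both (Set.mem_range_self x)),
    hout 0 _ (fun h => not_mem_both h (Set.mem_range_self x)), hval, hval]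
  · simp only [mul_sub, Finset.sum_sub_distrib]
    ring
  · ext p
    simp only [Set.mem_inter_iff, Function.mem_support, Set.mem_preimage, Finset.coe_insert, Finset.coe_singleton,
      Set.mem_insert_iff, Set.mem_singleton_iff]
    refine ⟨fun h => ⟨?_, h.2⟩, fun h => ⟨?_, h.2⟩⟩
    · have hg' : γ p ≠ 0 := left_ne_zero_of_mul h.2
      rw [hγ, Pi.sub_apply] at hg'
      by_contra hp
      simp only [not_or] at hp
      refine hg' ?_
      rw [hout 0 p fun hr => ?_, hout 1 p fun hr => ?_, sub_zero]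
      · obtain ⟨y, rfl⟩ := hr
        exact hp.2 (congrArg (P1.sect X 1) ((tb_sect 1 y).symm.trans h.1))
      · obtain ⟨y, rfl⟩ := hr
        exact hp.1 (congrArg (P1.sect X 0) ((tb_sect 0 y).symm.trans h.1))
    · rcases h.1 with rfl | rfl
      · exact tb_sect 0 x
      · exact tb_sect 1 x

end GrothLib.ChiDev4
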