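import Groth.Agent.Lib.ChiDev4.Main
import Groth.Agent.Lib.TorFlatBC.Basic
import Groth.Agent.Lib.CycFlat.Sheaf
import Groth.Agent.Lib.ModDesc.Approx

/-! Flat pullback of intersection products of sheaf cycles. -/

set_option autoImplicit false
set_option linter.style.haveILetI false
set_option backward.isDefEq.respectTransparency false
set_option maxHeartbeats 1000000

universe u

open CategoryTheory AlgebraicGeometry IsLocalRing
open scoped TensorProduct

namespace GrothLib.ChiDev4

theorem length_extend {A B : Type u} [CommRing A] [CommRing B] [IsLocalRing A] [IsLocalRing B]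
    (φ : A →+* B) [IsLocalHom φ] (hφ : φ.Flat) (T : ModuleCat.{u} A) :
    Module.length B ((ModuleCat.extendScalars.{u, u, u} φ).obj T) =
      Module.length A T * Module.length B (B ⧸ (IsLocalRing.maximalIdeal A).map φ) := by
  algebraize [φ]
  haveI : Module.Flat A B := hφ
  haveI : IsLocalHom (algebraMap A B) := inferInstanceAs (IsLocalHom φ)
  haveI : Module.FaithfullyFlat A B := Module.FaithfullyFlat.of_flat_of_isLocalHom
  have h := GrothLib.LenTensor.length_tensor (A := A) (B := B) (N := B) T
  have e' : ∀ J : Ideal B, J • (⊤ : Submodule B B) = J := fun J => by simp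
  rw [e'] at h
  exact h

theorem chi_extend {A B : Type u} [CommRing A] [CommRing B] [IsLocalRing A] [IsLocalRing B]
    (φ : A →+* B) [IsLocalHom φ] (hφ : φ.Flat) (M N : ModuleCat.{u} A) (M' N' : ModuleCat.{u} B)
    (e₁ : M' ≅ (ModuleCat.extendScalars.{u, u, u} φ).obj M) (e₂ : N' ≅ (ModuleCat.extendScalars.{u, u, u} φ).obj N) :
    IntMult.chi B M' N' = IntMult.chi A M N *
      ((Module.length B (B ⧸ (IsLocalRing.maximalIdeal A).map φ)).toNat : ℤ) := by
  rw [IntMult.chi, IntMult.chi, finsum_mul]
  refine finsum_congr fun i => ?_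
  obtain ⟨e⟩ := GrothLib.TorFlatBC.nonempty_iso φ hφ M N i
  have h : Module.length B (DRing.Tor B i M' N') =
      Module.length A (DRing.Tor A i M N) * Module.length B (B ⧸ (IsLocalRing.maximalIdeal A).map φ) := by
    refine Eq.trans ?_ (length_extend φ hφ (((CategoryTheory.Tor (ModuleCat.{u} A) i).obj M).obj N))
    exact (((CategoryTheory.Tor (ModuleCat.{u} B) i).mapIso e₁).app N' ≪≫
      ((CategoryTheory.Tor (ModuleCat.{u} B) i).obj ((ModuleCat.extendScalars.{u, u, u} φ).obj M)).mapIso e₂ ≪≫
      e.symm).toLinearEquiv.length_eq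
  rw [h, ENat.toNat_mul]
  push_cast
  ring

variable {X Y : Scheme.{u}}

theorem chi_stalk_pullback (f : X ⟶ Y) [Flat f] (F G : Y.Modules) (x : X) :
    IntMult.chi (X.presheaf.stalk x) (((Scheme.Modules.pullback f).obj F).presheaf.stalk x)
        (((Scheme.Modules.pullback f).obj G).presheaf.stalk x) =
      IntMult.chi (Y.presheaf.stalk (f x)) (F.presheaf.stalk (f x)) (G.presheaf.stalk (f x)) *
        ((CycFlat.fibLength f x).toNat : ℤ) :=
  chi_extend (f.stalkMap x).hom (Flat.stalkMap f x) ((OX.stalk (f x)).obj F) ((OX.stalk (f x)).obj G)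
    ((OX.stalk x).obj ((Scheme.Modules.pullback f).obj F)) ((OX.stalk x).obj ((Scheme.Modules.pullback f).obj G))
    ((GrothLib.QCoh.stalkPullbackIso f x).app F) ((GrothLib.QCoh.stalkPullbackIso f x).app G)

theorem pullFun_interProd_sheafFun {K : Type u} [Field K] [IsAlgClosed K] (f : X ⟶ Y)
    (gX : X ⟶ Spec (CommRingCat.of K)) (gY : Y ⟶ Spec (CommRingCat.of K)) (hf : f ≫ gY = gX)
    [Smooth gX] [IsIntegral X] [Smooth gY] [IsIntegral Y] [Flat f] {δX : X → ℤ} {δY : Y → ℤ}
    (hX : Cyc.IsSetup X δX) (hY : Cyc.IsSetup Y δY) (hδ : Cyc.DeltaCompat f δX δY)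
    (n m : ℤ) (hn : δX (genericPoint X) = n) (hm : δY (genericPoint Y) = m)
    (e : ℕ) (he : (e : ℤ) = n - m) (hrel : Cyc.HasRelDim f e)
    (F G : Y.Modules) (hF : Coh.IsCoh F) (hG : Coh.IsCoh G) (r s : ℤ)
    (hr : ∀ y : Y, Nontrivial (F.presheaf.stalk y) → δY y ≤ r)
    (hs : ∀ y : Y, Nontrivial (G.presheaf.stalk y) → δY y ≤ s)
    (hrs : ∀ y : Y, Nontrivial (F.presheaf.stalk y) → Nontrivial (G.presheaf.stalk y) → δY y ≤ r + s - m) :
    IntMult.IntersectProperly δX n (Cyc.sheafFun δX (r + e) ((Scheme.Modules.pullback f).obj F))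
        (Cyc.sheafFun δX (s + e) ((Scheme.Modules.pullback f).obj G)) ∧
      Cyc.pullFun f δX δY e (IntMult.interProd δY m (Cyc.sheafFun δY r F) (Cyc.sheafFun δY s G)) =
        IntMult.interProd δX n (Cyc.sheafFun δX (r + e) ((Scheme.Modules.pullback f).obj F))
          (Cyc.sheafFun δX (s + e) ((Scheme.Modules.pullback f).obj G)) := by
  haveI : IsLocallyNoetherian X := hX.1
  haveI : IsLocallyNoetherian Y := hY.1
  haveI : LocallyOfFiniteType f := by
    haveI : LocallyOfFiniteType (f ≫ gY) := by rw [hf]; infer_instance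
    exact locallyOfFiniteType_of_comp f gY
  have hc := GrothLib.CycFlat.shift_of_hasRelDim f hrel hδ
  have hdX : Cyc.IsDimFun X δX := hX.2.2
  have hle : ∀ x : X, δX x ≤ δY (f x) + e := fun x => (GrothLib.CycFlat.eq_add_iff_maxFib f hdX hc x).2
  have hsupp : ∀ (H : Y.Modules), Coh.IsCoh H → ∀ x : X,
      Nontrivial (((Scheme.Modules.pullback f).obj H).presheaf.stalk x) → Nontrivial (H.presheaf.stalk (f x)) := by
    intro H hH x hx
    have h1 : x ∈ CohB1.support ((Scheme.Modules.pullback f).obj H) := not_subsingleton_iff_nontrivial.2 hx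
    rw [GrothLib.QCoh.support_pullback f H hH] at h1
    exact not_subsingleton_iff_nontrivial.1 h1
  have hX' := interProd_sheafFun gX hX n hn ((Scheme.Modules.pullback f).obj F) ((Scheme.Modules.pullback f).obj G)
    (GrothLib.ModDesc.isCoh_pullback f F hF) (GrothLib.ModDesc.isCoh_pullback f G hG) (r + e) (s + e)
    (fun x hx => by have := hr _ (hsupp F hF x hx); have := hle x; omega)
    (fun x hx => by have := hs _ (hsupp G hG x hx); have := hle x; omega)
    (fun x h1 h2 => by have := hrs _ (hsupp F hF x h1) (hsupp G hG x h2); have := hle x; omega)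
  have hY' := interProd_sheafFun gY hY m hm F G hF hG r s hr hs hrs
  refine ⟨hX'.1, funext fun x => ?_⟩
  rw [GrothLib.CycFlat.pullFun_apply, hY'.2, hX'.2, chi_stalk_pullback]
  by_cases hk : δY (f x) = r + s - m
  · by_cases hx : δX x = δY (f x) + e
    · rw [if_pos hx, if_pos hk, if_pos (by omega)]
    · rw [if_neg hx, if_neg (by omega)]
  · rw [if_neg hk, zero_mul, ite_self]
    by_cases hx : δX x = r + e + (s + e) - n
    · rw [if_pos hx]
      have h0 : IntMult.chi (Y.presheaf.stalk (f x)) (F.presheaf.stalk (f x)) (G.presheaf.stalk (f x)) = 0 := by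
        rcases subsingleton_or_nontrivial (F.presheaf.stalk (f x)) with h1 | h1
        · exact chi_of_subsingleton _
        rcases subsingleton_or_nontrivial (G.presheaf.stalk (f x)) with h2 | h2
        · rw [GrothLib.KoszulEuler.intMult_chi_comm]
          exact chi_of_subsingleton _
        have := hrs _ h1 h2
        have := hle x
        exact absurd (show δY (f x) = r + s - m by omega) hk
      rw [h0, zero_mul]
    · rw [if_neg hx]

end GrothLib.ChiDev4
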